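import Mathlib.Algebra.Homology.DerivedCategory.Ext.ExactSequences
import Mathlib.Algebra.Homology.DerivedCategory.Ext.Linear
import Mathlib.Algebra.Homology.ShortComplex.ShortExact
import Mathlib.CategoryTheory.Adjunction.Additive

/-! The class of a morphism on the kernel of an epimorphism, after applying a left adjoint. -/

set_option autoImplicit false
set_option linter.style.haveILetI false
set_option backward.isDefEq.respectTransparency false

universe u v w

open CategoryTheory CategoryTheory.Limits CategoryTheory.Abelian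

namespace Groth.Agent.HilbObs76

variable {C : Type v} [Category.{u} C] [Abelian C] {D : Type w} [Category.{u} D] [Abelian D] [HasExt.{u} D]
  {L : C ⥤ D} {R : D ⥤ C} (adj : L ⊣ R) [L.Additive] (O : D)

/-- `L` applied to `G → M`, completed by its kernel. -/
noncomputable def imgSeq (L : C ⥤ D) [L.Additive] {G M : C} (φ : G ⟶ M) : ShortComplex D :=
  ShortComplex.mk (kernel.ι (L.map φ)) (L.map φ) (kernel.condition _)

/-- `L(ker φ) → ker (L φ)`. -/
noncomputable def eps (L : C ⥤ D) [L.Additive] {G M : C} (φ : G ⟶ M) : L.obj (kernel φ) ⟶ kernel (L.map φ) :=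
  kernel.lift (L.map φ) (L.map (kernel.ι φ)) (by rw [← L.map_comp, kernel.condition, L.map_zero])

omit [HasExt.{u} D] in
include adj in
theorem imgSeq_shortExact {G M : C} (φ : G ⟶ M) [Epi φ] : (imgSeq L φ).ShortExact := by
  haveI : L.IsLeftAdjoint := adj.isLeftAdjoint
  exact { exact := ShortComplex.exact_of_f_is_kernel _ (kernelIsKernel (L.map φ))
          mono_f := inferInstanceAs (Mono (kernel.ι (L.map φ)))
          epi_g := inferInstanceAs (Epi (L.map φ)) }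

omit [HasExt.{u} D] in
include adj in
theorem epi_eps {G M : C} (φ : G ⟶ M) [Epi φ] : Epi (eps L φ) := by
  haveI : L.IsLeftAdjoint := adj.isLeftAdjoint
  let S : ShortComplex D := ShortComplex.mk (L.map (kernel.ι φ)) (L.map φ)
    (by rw [← L.map_comp, kernel.condition, L.map_zero])
  have hS : S.Exact := ShortComplex.exact_of_g_is_cokernel S
    (CokernelCofork.mapIsColimit _ (Abelian.epiIsCokernelOfKernel _ (kernelIsKernel φ)) L)
  exact (ShortComplex.exact_iff_epi_kernel_lift S).1 hS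

/-- `κ` factors through `ker (L φ)`. -/
abbrev Fact {G M : C} (φ : G ⟶ M) (κ : kernel φ ⟶ R.obj O) : Prop :=
  ∃ κ' : kernel (L.map φ) ⟶ O, eps L φ ≫ κ' = (adj.homEquiv _ _).symm κ

open Classical in
/-- The class of `κ`. -/
noncomputable def cls {G M : C} (φ : G ⟶ M) [Epi φ] (κ : kernel φ ⟶ R.obj O) : Ext.{u} (L.obj M) O 1 :=
  if h : Fact adj O φ κ then (imgSeq_shortExact adj φ).extClass.comp (Ext.mk₀ h.choose) (add_zero 1) else 0

theorem cls_eq {G M : C} (φ : G ⟶ M) [Epi φ] {κ : kernel φ ⟶ R.obj O} (κ' : kernel (L.map φ) ⟶ O)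
    (h : eps L φ ≫ κ' = (adj.homEquiv _ _).symm κ) :
    cls adj O φ κ = (imgSeq_shortExact adj φ).extClass.comp (Ext.mk₀ κ') (add_zero 1) := by
  have hF : Fact adj O φ κ := ⟨κ', h⟩
  haveI := epi_eps adj φ
  unfold cls
  rw [dif_pos hF, (cancel_epi (eps L φ)).1 (hF.choose_spec.trans h.symm)]

omit [HasExt.{u} D] in
theorem symm_add {A : C} (a b : A ⟶ R.obj O) :
    (adj.homEquiv A O).symm (a + b) = (adj.homEquiv A O).symm a + (adj.homEquiv A O).symm b := by
  simp [Adjunction.homEquiv_counit, Functor.map_add]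

theorem fact_add {G M : C} (φ : G ⟶ M) [Epi φ] {κ₁ κ₂ : kernel φ ⟶ R.obj O} (h₁ : Fact adj O φ κ₁)
    (h₂ : Fact adj O φ κ₂) : Fact adj O φ (κ₁ + κ₂) ∧ cls adj O φ (κ₁ + κ₂) = cls adj O φ κ₁ + cls adj O φ κ₂ := by
  obtain ⟨a, ha⟩ := h₁
  obtain ⟨b, hb⟩ := h₂
  have hab : eps L φ ≫ (a + b) = (adj.homEquiv _ _).symm (κ₁ + κ₂) := by
    rw [Preadditive.comp_add, ha, hb, symm_add]
  refine ⟨⟨_, hab⟩, ?_⟩
  rw [cls_eq adj O φ _ hab, cls_eq adj O φ _ ha, cls_eq adj O φ _ hb, ← Ext.comp_add]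
  congr 1
  exact (Ext.addEquiv₀.symm.map_add a b)

theorem fact_smul {k : Type*} [CommRing k] [Linear k C] [Linear k D] {G M : C} (φ : G ⟶ M) [Epi φ]
    (hlin : ∀ (a : k) (κ : kernel φ ⟶ R.obj O),
      (adj.homEquiv _ _).symm (a • κ) = a • (adj.homEquiv _ _).symm κ)
    (t : k) {κ : kernel φ ⟶ R.obj O} (h : Fact adj O φ κ) :
    Fact adj O φ (t • κ) ∧ cls adj O φ (t • κ) = t • cls adj O φ κ := by
  obtain ⟨a, ha⟩ := h
  have hta : eps L φ ≫ (t • a) = (adj.homEquiv _ _).symm (t • κ) := by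
    rw [Linear.comp_smul, ha, hlin]
  refine ⟨⟨_, hta⟩, ?_⟩
  rw [cls_eq adj O φ _ hta, cls_eq adj O φ _ ha, Ext.mk₀_smul, Ext.comp_smul]

/-- The class vanishes iff `κ` extends. -/
theorem cls_eq_zero_iff {G M : C} (φ : G ⟶ M) [Epi φ] {κ : kernel φ ⟶ R.obj O} (h : Fact adj O φ κ) :
    cls adj O φ κ = 0 ↔ ∃ θ : G ⟶ R.obj O, kernel.ι φ ≫ θ = κ := by
  obtain ⟨a, ha⟩ := h
  rw [cls_eq adj O φ _ ha]
  constructor
  · intro h0
    obtain ⟨x₂, hx₂⟩ := Ext.contravariant_sequence_exact₁ (imgSeq_shortExact adj φ) O (Ext.mk₀ a) (add_zero 1) h0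
    obtain ⟨r, rfl⟩ := (Ext.mk₀_bijective _ _).2 x₂
    rw [Ext.mk₀_comp_mk₀] at hx₂
    have hr : kernel.ι (L.map φ) ≫ r = a := (Ext.mk₀_bijective _ _).1 hx₂
    refine ⟨adj.homEquiv _ _ r, ?_⟩
    rw [← Adjunction.homEquiv_naturality_left, ← Equiv.eq_symm_apply, ← ha, ← hr, eps, kernel.lift_ι_assoc]
  · rintro ⟨θ, hθ⟩
    have hr : kernel.ι (L.map φ) ≫ (adj.homEquiv _ _).symm θ = a := by
      haveI := epi_eps adj φ
      rw [← cancel_epi (eps L φ), ha, ← hθ, Adjunction.homEquiv_naturality_left_symm, eps, kernel.lift_ι_assoc]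
    rw [← hr, ← Ext.mk₀_comp_mk₀]
    exact (imgSeq_shortExact adj φ).extClass_comp_assoc (Ext.mk₀ ((adj.homEquiv _ _).symm θ))

omit [HasExt.{u} D] in
/-- A criterion for factoring. -/
theorem fact_of_mono {G M : C} (φ : G ⟶ M) [Epi φ] (κ : kernel φ ⟶ R.obj O) {E : C} (a : R.obj O ⟶ E) (b : G ⟶ E)
    (h : kernel.ι φ ≫ b = κ ≫ a) (hm : Mono (L.map a)) : Fact adj O φ κ := by
  haveI := epi_eps adj φ
  have h0 : kernel.ι (eps L φ) ≫ L.map κ = 0 := by
    rw [← cancel_mono (L.map a), zero_comp, Category.assoc, ← L.map_comp, ← h, L.map_comp]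
    have e : L.map (kernel.ι φ) = eps L φ ≫ kernel.ι (L.map φ) := (kernel.lift_ι _ _ _).symm
    rw [e, Category.assoc, kernel.condition_assoc, zero_comp]
  have h1 : kernel.ι (eps L φ) ≫ (adj.homEquiv _ _).symm κ = 0 := by
    rw [Adjunction.homEquiv_counit, ← Category.assoc, h0, zero_comp]
  exact ⟨(Abelian.epiIsCokernelOfKernel _ (kernelIsKernel (eps L φ))).desc (CokernelCofork.ofπ _ h1),
    (Abelian.epiIsCokernelOfKernel _ (kernelIsKernel (eps L φ))).fac (CokernelCofork.ofπ _ h1) WalkingParallelPair.one⟩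

/-- Naturality of the class. -/
theorem fact_map {G G' M : C} (φ : G ⟶ M) [Epi φ] (φ' : G' ⟶ M) [Epi φ'] (τ : G ⟶ G') (hτ : τ ≫ φ' = φ)
    {κ' : kernel φ' ⟶ R.obj O} (h : Fact adj O φ' κ') :
    Fact adj O φ (kernel.map φ φ' τ (𝟙 M) (by rw [Category.comp_id, hτ]) ≫ κ') ∧
      cls adj O φ (kernel.map φ φ' τ (𝟙 M) (by rw [Category.comp_id, hτ]) ≫ κ') = cls adj O φ' κ' := by
  obtain ⟨a, ha⟩ := h
  have hL : L.map τ ≫ L.map φ' = L.map φ ≫ 𝟙 _ := by rw [Category.comp_id, ← L.map_comp, hτ]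
  let τK := kernel.map φ φ' τ (𝟙 M) (by rw [Category.comp_id, hτ])
  let τN := kernel.map (L.map φ) (L.map φ') (L.map τ) (𝟙 _) hL.symm
  have he : eps L φ ≫ τN = L.map τK ≫ eps L φ' := by
    rw [← cancel_mono (kernel.ι (L.map φ'))]
    dsimp only [τN, τK, eps, kernel.map]
    simp only [Category.assoc, kernel.lift_ι]
    simp only [← Category.assoc, kernel.lift_ι, ← L.map_comp]
  have hab : eps L φ ≫ (τN ≫ a) = (adj.homEquiv _ _).symm (τK ≫ κ') := by
    rw [← Category.assoc, he, Category.assoc, ha, Adjunction.homEquiv_naturality_left_symm]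
  refine ⟨⟨_, hab⟩, ?_⟩
  rw [cls_eq adj O φ _ hab, cls_eq adj O φ' _ ha]
  let f : imgSeq L φ ⟶ imgSeq L φ' :=
    { τ₁ := τN
      τ₂ := L.map τ
      τ₃ := 𝟙 _
      comm₁₂ := kernel.lift_ι _ _ _
      comm₂₃ := hL }
  have hn := ShortComplex.ShortExact.extClass_naturality (imgSeq_shortExact adj φ) (imgSeq_shortExact adj φ') f
  have hn' : (imgSeq_shortExact adj φ).extClass.comp (Ext.mk₀ τN) (add_zero 1) =
      (imgSeq_shortExact adj φ').extClass := hn.trans (Ext.mk₀_id_comp _)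
  rw [← Ext.mk₀_comp_mk₀]
  exact (Ext.comp_assoc_of_second_deg_zero _ _ _ _).symm.trans
    (congrArg (fun t => Ext.comp t (Ext.mk₀ a) (add_zero 1)) hn')

end Groth.Agent.HilbObs76
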