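import Groth.Agent.ArtFunLib.ObsBound
import Groth.Agent.PSLib.Regular
import Groth.Agent.CotTLib.CI
import Groth.Prelude.Def_Pi1

/-! Dimension bounds for a prorepresenting ring from an obstruction theory. -/

set_option autoImplicit false
set_option linter.style.haveILetI false
set_option backward.isDefEq.respectTransparency false
universe u v

open CategoryTheory ArtFun ArtFun.Art IsLocalRing

namespace Groth.Agent.HilbObs76

open Groth.Agent.ArtFunLib

variable {k : Type u} [Field k]

theorem exists_surjective_powerSeries (R : CRing k k) :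
    ∃ π : MvPowerSeries (Fin (Module.finrank (ResidueField R.carrier) (CotangentSpace R.carrier))) k →ₐ[k] R.carrier,
      Function.Surjective π := by
  haveI := R.isAdicComplete
  let bs := Module.finBasis (ResidueField R.carrier) (CotangentSpace R.carrier)
  choose b hb using fun i => (maximalIdeal R.carrier).toCotangent_surjective (bs i)
  obtain ⟨π, hπ⟩ := PSLib.exists_algHom (R := k) (maximalIdeal R.carrier) (fun i => (b i).1) fun i => (b i).2
  have hres : Function.Surjective ((residue R.carrier).comp (algebraMap k R.carrier)) := fun y => by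
    obtain ⟨y, rfl⟩ := residue_surjective y
    refine ⟨R.res y, Ideal.Quotient.eq.2 ?_⟩
    rw [← ker_eq_maximalIdeal R.res.toRingHom R.res_surjective, RingHom.mem_ker]
    show R.res (algebraMap k R.carrier (R.res y) - y) = 0
    rw [map_sub, AlgHom.commutes]
    exact sub_self _
  have hgen := PSLib.le_span_sup_sq (b := fun i => (b i).1) (fun i => (b i).2) (by
    rw [show (fun i => (maximalIdeal R.carrier).toCotangent ⟨(b i).1, (b i).2⟩) = bs from funext hb]
    exact bs.span_eq)
  exact ⟨π, PSLib.surjective_of_span hres π (fun i => by rw [hπ]; exact (b i).2) (by simpa only [hπ] using hgen)⟩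

/-- A prorepresenting ring whose dimension is the embedding dimension is formally smooth. -/
theorem smooth_of_dim_eq (R : CRing k k)
    (hdim : ringKrullDim R.carrier = (Module.finrank (ResidueField R.carrier) (CotangentSpace R.carrier) : WithBot ℕ∞)) :
    IsSmoothFunctor (hR R.carrier R.res) := by
  obtain ⟨π, hπ⟩ := exists_surjective_powerSeries R
  let e := AlgEquiv.ofBijective π (PSLib.bijective_of_surjective k _ π.toRingHom hπ hdim)
  have hsm := ObsHR.isSmoothFunctor_powerSeries (R.res.comp π)
  intro B A μ hμ φ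
  let φ' : HomSet R.carrier R.res A := φ
  obtain ⟨ψ, hψ⟩ := hsm μ hμ (⟨φ'.1.comp π, by rw [← AlgHom.comp_assoc, φ'.2]⟩ :
    HomSet (MvPowerSeries _ k) (R.res.comp π) A)
  let ψ' : HomSet (MvPowerSeries _ k) (R.res.comp π) B := ψ
  refine ⟨(⟨ψ'.1.comp e.symm.toAlgHom, ?_⟩ : HomSet R.carrier R.res B), Subtype.ext (AlgHom.ext fun r => ?_)⟩
  · rw [← AlgHom.comp_assoc, ψ'.2]
    exact AlgHom.ext fun r => congrArg R.res (e.apply_symm_apply r)
  · obtain ⟨a, rfl⟩ := hπ r
    show μ (ψ'.1 (e.symm (π a))) = φ'.1 (π a)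
    rw [show e.symm (π a) = a from e.symm_apply_apply a]
    exact congr(($hψ).1 a)

/-- The bounds. -/
theorem bounds_of_natural {F : Art k k ⥤ Type v} {V : Type u} [AddCommGroup V] [Module k V] [Module.Finite k V]
    (hT : HasObsTheory F V) (R : CRing k k) (η : ∀ A : Art k k, HomSet R.carrier R.res A ≃ F.obj A)
    (hη : ∀ (A B : Art k k) (φ : A ⟶ B) (v : HomSet R.carrier R.res A),
      η B (HomSet.map φ v) = F.map φ (η A v)) :
    ringKrullDim R.carrier ≤ (Module.finrank (ResidueField R.carrier) (CotangentSpace R.carrier) : WithBot ℕ∞) ∧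
      (Module.finrank (ResidueField R.carrier) (CotangentSpace R.carrier) : WithBot ℕ∞) ≤
          ringKrullDim R.carrier + (Module.finrank k V : WithBot ℕ∞) ∧
      (ringKrullDim R.carrier = (Module.finrank (ResidueField R.carrier) (CotangentSpace R.carrier) : WithBot ℕ∞) ↔
        IsSmoothFunctor F) ∧
      (ringKrullDim R.carrier + (Module.finrank k V : WithBot ℕ∞) =
          (Module.finrank (ResidueField R.carrier) (CotangentSpace R.carrier) : WithBot ℕ∞) →
        ∀ (A : Type u) [CommRing A] [IsLocalRing A],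
          Nonempty (R.carrier ≃+* AdicCompletion (maximalIdeal A) A) → Pi1.IsCompleteIntersection A) := by
  obtain ⟨T⟩ := hT
  obtain ⟨n, π, hπ, hJ⟩ := ObsHR.exists_minimal_presentation R
  haveI := PSLib.isRegularLocalRing k n
  have hlift : ∀ {C' C : Art k k} (p : C' ⟶ C) (u : HomSet R.carrier R.res C),
      (∃ u', F.map p u' = η C u) ↔ ∃ w, (hR R.carrier R.res).map p w = u := fun {C' C} p u =>
    ⟨fun ⟨u', h⟩ => ⟨(η C').symm u', (η C).injective (by
        show η C (HomSet.map p _) = η C u
        rw [hη, Equiv.apply_symm_apply, h])⟩,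
      fun ⟨w, h⟩ => ⟨η C' w, by rw [← hη]; exact congrArg (η C) h⟩⟩
  let T' : ObsTheory (hR R.carrier R.res) V :=
    { obs := fun {C' C} p hp u => T.obs p hp (η C u)
      obs_eq_zero_iff := fun {C' C} p hp u => by rw [T.obs_eq_zero_iff]; exact hlift p u
      obs_quot := fun {C' C} p hp K hK hKJ hq u => T.obs_quot p hp K hK hKJ hq (η C u) }
  obtain ⟨hle, hge, -, hci⟩ := ObsBound.bounds R.res π hπ hJ T'
  refine ⟨hle, hge, ⟨fun hd B A μ hμ u => ?_, fun hs => ?_⟩, fun heq A _ _ ⟨eA⟩ => ?_⟩
  · obtain ⟨w, hw⟩ := smooth_of_dim_eq R hd μ hμ ((η A).symm u)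
    obtain ⟨u', hu'⟩ := (hlift μ _).2 ⟨w, hw⟩
    exact ⟨u', hu'.trans ((η A).apply_symm_apply u)⟩
  · let T₀ : ObsTheory (hR R.carrier R.res) PUnit.{u+1} :=
      { obs := fun _ _ _ => 0
        obs_eq_zero_iff := fun {C' C} p hp u => by
          refine ⟨fun _ => (hlift p u).1 (hs p hp.1 (η C u)), fun _ => rfl⟩
        obs_quot := fun _ _ _ _ _ _ _ => by simp }
    obtain ⟨hle', hge', -⟩ := ObsBound.bounds R.res π hπ hJ T₀
    rw [Module.finrank_zero_of_subsingleton (R := k) (M := PUnit.{u+1}), Nat.cast_zero, add_zero] at hge'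
    exact le_antisymm hle' hge'
  · obtain ⟨P, _, _, g, s, hg, hs, hd⟩ := hci heq
    have hofs : Ideal.ofList s.toList = Ideal.span (s : Set P) := by
      rw [Ideal.ofList]
      congr 1
      ext a
      simp
    have hmem : ∀ r ∈ s.toList, r ∈ maximalIdeal P := fun r hr => IsLocalRing.le_maximalIdeal
      (RingHom.ker_ne_top g) (hs ▸ Ideal.subset_span (Finset.mem_toList.1 hr))
    let eP : (P ⧸ Ideal.ofList s.toList) ≃+* R.carrier :=
      (Ideal.quotEquivOfEq (hofs.trans hs)).trans (RingHom.quotientKerEquivOfSurjective hg)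
    have hw := CotTLib.isWeaklyRegular_of_dim s.toList hmem (by
      rw [ringKrullDim_eq_of_ringEquiv eP, hd, Finset.length_toList, add_comm])
    exact ⟨P, inferInstance, inferInstance, s.toList, hmem,
      RingTheory.Sequence.IsRegular.of_isWeaklyRegular_of_mem_maximalIdeal P hmem hw,
      ⟨eA.symm.trans eP.symm⟩⟩

end Groth.Agent.HilbObs76
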