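import Groth.Agent.HilbObs76.Normal
import Groth.Agent.HilbPt76.ExtImage
import Groth.Agent.CurveCohLib.Proper
import Groth.Agent.SheafHomX.Coherent
import Groth.Agent.ZClosLib.CohDescent
import Groth.Agent.Algz7.PullbackFormal

/-! The obstruction space of a regularly immersed closed subscheme, compared with `H¹` of its normal sheaf. -/

set_option autoImplicit false
set_option linter.style.haveILetI false
set_option backward.isDefEq.respectTransparency false
universe u

open CategoryTheory CategoryTheory.Limits AlgebraicGeometry CategoryTheory.Abelian ArtFun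

namespace Groth.Agent.HilbObs76

variable {k : Type u} [Field k]

theorem linear_pullEquiv {X Y : Scheme.{u}} [X.Over (Spec (CommRingCat.of k))] [Y.Over (Spec (CommRingCat.of k))]
    (e : X ≅ Y) (he : e.hom ≫ (Y ↘ Spec (CommRingCat.of k)) = X ↘ Spec (CommRingCat.of k))
    [(HilbPt76.pullEquiv e).functor.Additive] :
    (HilbPt76.pullEquiv e).functor.Linear k where
  map_smul {M N} f a := by
    show (Scheme.Modules.pullback e.hom).map (a • f) = a • (Scheme.Modules.pullback e.hom).map f
    rw [KLin.smul_def, KLin.smul_def, Functor.map_comp, Algz7.pullback_smulMod e.hom he]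

theorem exists_obsSpace {Y : Scheme.{u}} [Y.Over (Spec (CommRingCat.of k))]
    [LocallyOfFiniteType (Y ↘ Spec (CommRingCat.of k))]
    {X : Scheme.{u}} [X.Over (Spec (CommRingCat.of k))] [IsProper (X ↘ Spec (CommRingCat.of k))] (i : X ⟶ Y)
    [IsClosedImmersion i] (hi : i ≫ (Y ↘ Spec (CommRingCat.of k)) = X ↘ Spec (CommRingCat.of k))
    (hreg : Mor2.IsRegularClosedImmersion i) [DCoh.HasSheafHom (Omega.conormal i)] :
    ∃ (V : Type u) (_ : AddCommGroup V) (_ : Module k V) (_ : Module.Finite k V),
      HasObsTheory (localHilb Y (Y ↘ Spec (CommRingCat.of k)) i.ker) V ∧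
      Module.finrank k V ≤
        Module.finrank k (Coh.HH X ((DCoh.sheafHom (Omega.conormal i)).obj (Coh.structureModule X)) 1) := by
  haveI : IsLocallyNoetherian Y := LocallyOfFiniteType.isLocallyNoetherian (Y ↘ Spec (CommRingCat.of k))
  haveI : IsLocallyNoetherian X := LocallyOfFiniteType.isLocallyNoetherian i
  let I₀ : Y.IdealSheafData := i.ker
  let e : X ≅ I₀.subscheme := SurfInt.kerIso i
  letI : I₀.subscheme.Over (Spec (CommRingCat.of k)) := ⟨I₀.subschemeι ≫ (Y ↘ Spec (CommRingCat.of k))⟩
  letI : HasExt.{u} I₀.subscheme.Modules :=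
    IsGrothendieckAbelian.hasExt (SheafOfModules.{u} I₀.subscheme.ringCatSheaf)
  letI : HasExt.{u} X.Modules := IsGrothendieckAbelian.hasExt (SheafOfModules.{u} X.ringCatSheaf)
  haveI : EnoughInjectives I₀.subscheme.Modules := inferInstanceAs (EnoughInjectives (SheafOfModules _))
  have hL : LocLift (Y ↘ Spec (CommRingCat.of k)) I₀ := fun B A q hq IA z => by
    obtain ⟨U, hU, hz, rs, hrs, hI⟩ := hreg.2 (e.inv z)
    refine ⟨⟨U, hU⟩, ?_, HilbLci76.exists_local_lift I₀ rs hrs.toIsWeaklyRegular hI q hq IA⟩
    show i.ker.subschemeι z ∈ U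
    rw [← (Iso.inv_comp_eq _).2 (SurfInt.kerIso_hom i).symm]
    exact hz
  have h := hasObsTheory (I₀ := I₀) rfl hL
  have hlf := HilbLci76.isFinLocFree_conormal i hreg
  haveI : Module.Finite k (Coh.HH X ((SheafHomX.hom (Omega.conormal i)).obj (Coh.structureModule X)) 1) :=
    CurveCohLib.finite_HH (k := k) (SheafHomX.isCoh_hom (ZClosLib.isCoh_pullback i
      (QCoh.isCoh_kernel QCoh.isCoh_structureModule' (ParShLib.isCoh_quotMod i.ker) _))
      QCoh.isCoh_structureModule') 1
  obtain ⟨eH⟩ := PnDual.nonempty_ext_linearEquiv_HH (A := k) hlf (Coh.structureModule X) 1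
  haveI : Module.Finite k (Ext.{u} (Omega.conormal i) (Coh.structureModule X) 1) := Module.Finite.equiv eH.symm
  let E := HilbPt76.pullEquiv e
  haveI : E.functor.Additive := Functor.additive_of_preserves_binary_products _
  haveI : E.functor.Linear k := linear_pullEquiv e (by
    show e.hom ≫ I₀.subschemeι ≫ _ = _
    rw [← Category.assoc, SurfInt.kerIso_hom, hi])
  let eA : E.functor.obj ((Scheme.Modules.pullback I₀.subschemeι).obj (ClSub.idealMod I₀)) ≅ Omega.conormal i :=
    (Scheme.Modules.pullbackComp e.hom I₀.subschemeι).app _ ≪≫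
      (Scheme.Modules.pullbackCongr (SurfInt.kerIso_hom i)).app _
  let eB : E.functor.obj (Coh.structureModule I₀.subscheme) ≅ Coh.structureModule X := HilbPt76.unitIso e.hom
  let L : Ext.{u} ((Scheme.Modules.pullback I₀.subschemeι).obj (ClSub.idealMod I₀))
      (Coh.structureModule I₀.subscheme) 1 →ₗ[k] Ext.{u} (Omega.conormal i) (Coh.structureModule X) 1 :=
    { toFun := fun α => ((Ext.mk₀ eA.inv).comp (α.mapExactFunctor E.functor) (zero_add 1)).comp
        (Ext.mk₀ eB.hom) (add_zero 1)
      map_add' := fun α β => by rw [Ext.mapExactFunctor_add, Ext.comp_add, Ext.add_comp]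
      map_smul' := fun a α => by
        rw [RingHom.id_apply, E.functor.mapExactFunctor_smul, Ext.comp_smul, Ext.smul_comp] }
  have hinj : Function.Injective L := fun α β hab => by
    have h1 : α.mapExactFunctor E.functor = β.mapExactFunctor E.functor := by
      have h2 := congrArg (fun t => ((Ext.mk₀ eA.hom).comp t (zero_add 1)).comp (Ext.mk₀ eB.inv) (add_zero 1)) hab
      simpa [L, Ext.comp_assoc_of_second_deg_zero, Ext.comp_assoc_of_third_deg_zero, Ext.mk₀_comp_mk₀_assoc,
        Ext.mk₀_comp_mk₀] using h2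
    haveI : E.inverse.Additive := Functor.additive_of_preserves_binary_products _
    haveI := comp_preservesFiniteLimits E.functor E.inverse
    haveI := comp_preservesFiniteColimits E.functor E.inverse
    have h2 := congrArg (fun t => Ext.mapExactFunctor E.inverse t) h1
    rw [← EtMVLib.mapExactFunctor_functorComp, ← EtMVLib.mapExactFunctor_functorComp] at h2
    have h3 := congrArg (fun t => (Ext.mk₀ (E.unitIso.hom.app _)).comp t (zero_add 1)) h2
    simp only [← EtMVLib.mapExactFunctor_natTrans (𝟭 _) (E.functor ⋙ E.inverse) E.unitIso.hom,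
      EtMVLib.mapExactFunctor_id] at h3
    have h4 := congrArg (fun t => t.comp (Ext.mk₀ (E.unitIso.inv.app _)) (add_zero 1)) h3
    simpa [Ext.comp_assoc_of_second_deg_zero, Ext.mk₀_comp_mk₀] using h4
  haveI : Module.Finite k (Ext.{u} ((Scheme.Modules.pullback I₀.subschemeι).obj (ClSub.idealMod I₀))
      (Coh.structureModule I₀.subscheme) 1) := Module.Finite.of_injective L hinj
  refine ⟨_, inferInstance, inferInstance, inferInstance, h, ?_⟩
  refine (LinearMap.finrank_le_finrank_of_injective hinj).trans (le_of_eq ?_)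
  exact (eH ≪≫ₗ hhEquiv (k := k)
    ((AmpleVan.sheafHomIso (Omega.conormal i)).app (Coh.structureModule X)).symm 1).finrank_eq

end Groth.Agent.HilbObs76
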