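import Groth.Agent.ArtFunLib.Square
import Groth.Prelude.Def_ArtFun3
import Mathlib.LinearAlgebra.FiniteDimensional.Lemmas

/-! Lifting along a semismall extension is tested on its small quotients. -/

set_option autoImplicit false
set_option linter.style.haveILetI false
set_option backward.isDefEq.respectTransparency false

universe u v

open CategoryTheory ArtFun ArtFun.Art

namespace Groth.Agent.HilbObs76

open Groth.Agent.ArtFunLib

variable {k : Type u} [Field k]

theorem finite_ker {B A : Art k k} (p : B ⟶ A) : Module.Finite k (RingHom.ker p.toAlgHom) := by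
  haveI : IsNoetherian k B := ArtFunLib.isNoetherian_base B
  exact Module.Finite.equiv ((Submodule.restrictScalarsEquiv k (B : Type u) B (RingHom.ker p.toAlgHom)).restrictScalars k)

theorem mul_eq_res_smul {B A : Art k k} (p : B ⟶ A) (hp : IsSemismallExt p) (b : B) {j : B}
    (hj : j ∈ RingHom.ker p.toAlgHom) : b * j = B.res b • j := by
  rw [Algebra.smul_def, ← sub_eq_zero, ← sub_mul, ← Ideal.mem_bot, ← hp.2]
  refine Ideal.mul_mem_mul ((B.mem_maximalIdeal_iff _).2 ?_) hj
  rw [map_sub, B.res.commutes, Algebra.algebraMap_self, RingHom.id_apply, sub_self]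

/-- A subspace of the kernel of a semismall extension, as an ideal. -/
noncomputable def subIdeal {B A : Art k k} (p : B ⟶ A) (hp : IsSemismallExt p)
    (Wk : Submodule k (RingHom.ker p.toAlgHom)) : Ideal B where
  carrier := {b | ∃ h : b ∈ RingHom.ker p.toAlgHom, (⟨b, h⟩ : RingHom.ker p.toAlgHom) ∈ Wk}
  zero_mem' := ⟨zero_mem _, Wk.zero_mem⟩
  add_mem' := fun ⟨ha, ha'⟩ ⟨hb, hb'⟩ => ⟨add_mem ha hb, Wk.add_mem ha' hb'⟩
  smul_mem' := fun b j ⟨hj, hj'⟩ => ⟨Ideal.mul_mem_left _ _ hj, by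
    convert Wk.smul_mem (B.res b) hj' using 1
    exact Subtype.ext (mul_eq_res_smul p hp b hj)⟩

theorem mem_subIdeal {B A : Art k k} (p : B ⟶ A) (hp : IsSemismallExt p) (Wk : Submodule k (RingHom.ker p.toAlgHom))
    (j : RingHom.ker p.toAlgHom) : (j : B) ∈ subIdeal p hp Wk ↔ j ∈ Wk :=
  ⟨fun ⟨_, h⟩ => h, fun h => ⟨j.2, h⟩⟩

theorem subIdeal_le {B A : Art k k} (p : B ⟶ A) (hp : IsSemismallExt p) (Wk : Submodule k (RingHom.ker p.toAlgHom)) :
    subIdeal p hp Wk ≤ RingHom.ker p.toAlgHom := fun _ h => h.1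

theorem isSemismallExt_quotFactor {B A : Art k k} (p : B ⟶ A) (hp : IsSemismallExt p) {K : Ideal B}
    (hK : K ≤ IsLocalRing.maximalIdeal B) (hKp : K ≤ RingHom.ker p.toAlgHom) :
    IsSemismallExt (quotFactor hK p hKp) := by
  refine ⟨fun a => ?_, le_bot_iff.1 (Ideal.mul_le.2 fun a ha b hb => ?_)⟩
  · obtain ⟨b, hb⟩ := hp.1 a
    exact ⟨quotMk B K hK b, hb⟩
  · obtain ⟨a', rfl⟩ := quotMk_surjective B K hK a
    obtain ⟨b', rfl⟩ := quotMk_surjective B K hK b
    have ha' : a' ∈ IsLocalRing.maximalIdeal B := (B.mem_maximalIdeal_iff _).2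
      (((quot B K hK).mem_maximalIdeal_iff _).1 ha)
    have hb' : b' ∈ RingHom.ker p.toAlgHom := hb
    rw [Ideal.mem_bot]
    refine (map_mul (quotMk B K hK).toAlgHom a' b').symm.trans ?_
    rw [show a' * b' = 0 from Ideal.mem_bot.1 (hp.2 ▸ Ideal.mul_mem_mul ha' hb'), map_zero]

theorem kerToQuot_surjective {B A : Art k k} (p : B ⟶ A) {K : Ideal B}
    (hK : K ≤ IsLocalRing.maximalIdeal B) (hKp : K ≤ RingHom.ker p.toAlgHom) :
    Function.Surjective (kerToQuot hK p hKp) := fun j => by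
  obtain ⟨b, hb⟩ := quotMk_surjective B K hK j.1
  exact ⟨⟨b, show quotFactor hK p hKp (quotMk B K hK b) = 0 by rw [hb]; exact j.2⟩, Subtype.ext hb⟩

theorem finrank_lt {B A : Art k k} (p : B ⟶ A) {K : Ideal B}
    (hK : K ≤ IsLocalRing.maximalIdeal B) (hKp : K ≤ RingHom.ker p.toAlgHom) {j : B} (hj : j ∈ K) (hj0 : j ≠ 0) :
    Module.finrank k (RingHom.ker (quotFactor hK p hKp).toAlgHom) < Module.finrank k (RingHom.ker p.toAlgHom) := by
  haveI := finite_ker p
  let f := (kerToQuot hK p hKp).restrictScalars k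
  have hsurj : Function.Surjective f := kerToQuot_surjective p hK hKp
  have hne : LinearMap.ker f ≠ ⊥ := fun h => hj0 (by
    have : (⟨j, hKp hj⟩ : RingHom.ker p.toAlgHom) ∈ LinearMap.ker f :=
      Subtype.ext (Ideal.Quotient.eq_zero_iff_mem.2 hj)
    rw [h, Submodule.mem_bot] at this
    exact congrArg Subtype.val this)
  have h1 := f.finrank_range_add_finrank_ker
  rw [LinearMap.range_eq_top.2 hsurj, finrank_top] at h1
  haveI : Nontrivial (LinearMap.ker f) := Submodule.nontrivial_iff_ne_bot.2 hne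
  have : 0 < Module.finrank k (LinearMap.ker f) := Module.finrank_pos
  omega

/-- Lifting along a semismall extension follows from lifting along its small quotients. -/
theorem exists_lift_of_small {F : Art k k ⥤ Type v}
    (hF : ∀ {B A A' A'' : Art k k} {p' : B ⟶ A'} {p'' : B ⟶ A''} {f' : A' ⟶ A} {f'' : A'' ⟶ A}
      (h : IsFibreProd p' p'' f' f''), Function.Surjective f'' → Function.Surjective (cmp F h)) :
    ∀ (n : ℕ) {B A : Art k k} (p : B ⟶ A), IsSemismallExt p → Module.finrank k (RingHom.ker p.toAlgHom) ≤ n →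
      ∀ u : F.obj A,
      (∀ {B' : Art k k} (q : B ⟶ B') (p' : B' ⟶ A), q ≫ p' = p → Function.Surjective q → IsSmallExt p' →
        ∃ u', F.map p' u' = u) →
      ∃ u', F.map p u' = u := by
  intro n
  induction n with
  | zero =>
    intro B A p hp hn u _
    have hker : ∀ b, p b = 0 → b = 0 := fun b hb => by
      haveI := finite_ker p
      haveI := Module.finrank_zero_iff.1 (Nat.le_zero.1 hn)
      exact congrArg Subtype.val (Subsingleton.elim (⟨b, hb⟩ : RingHom.ker p.toAlgHom) 0)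
    haveI := isIso_of_bijective p ⟨(injective_iff_map_eq_zero p.toAlgHom).2 hker, hp.1⟩
    exact (map_bijective_of_isIso F p).2 u
  | succ n ih =>
    intro B A p hp hn u h
    by_cases hbot : RingHom.ker p.toAlgHom = ⊥
    · refine ih p hp ?_ u h
      haveI : Subsingleton ↥(RingHom.ker p.toAlgHom) := hbot ▸ inferInstance
      simp [Module.finrank_zero_of_subsingleton]
    by_cases hsmall : IsSmallExt p
    · exact h (𝟙 B) p (Category.id_comp p) Function.surjective_id hsmall
    obtain ⟨j, hj, hj0⟩ := Submodule.exists_mem_ne_zero_of_ne_bot hbot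
    let jj : RingHom.ker p.toAlgHom := ⟨j, hj⟩
    obtain ⟨W₂, hW⟩ := Submodule.exists_isCompl (Submodule.span k {jj})
    let K₁ := subIdeal p hp (Submodule.span k {jj})
    let K₂ := subIdeal p hp W₂
    have hjK : j ∈ K₁ := (mem_subIdeal p hp _ jj).2 (Submodule.mem_span_singleton_self jj)
    have hK₁ : K₁ ≤ IsLocalRing.maximalIdeal B := (subIdeal_le p hp _).trans (ker_le_maximalIdeal p)
    have hK₂ : K₂ ≤ IsLocalRing.maximalIdeal B := (subIdeal_le p hp _).trans (ker_le_maximalIdeal p)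
    obtain ⟨j₂, hj₂, hj₂0⟩ : ∃ j₂ ∈ K₂, j₂ ≠ 0 := by
      by_contra hne
      push Not at hne
      refine hsmall ⟨hp.1, hbot, ⟨⟨j, le_antisymm (fun b hb => ?_) ?_⟩⟩, hp.2⟩
      · obtain ⟨a, ha, c, hc, hac⟩ := Submodule.mem_sup.1
          (hW.sup_eq_top ▸ Submodule.mem_top : (⟨b, hb⟩ : RingHom.ker p.toAlgHom) ∈ _ ⊔ W₂)
        obtain ⟨r, rfl⟩ := Submodule.mem_span_singleton.1 ha
        have hc0 : (c : B) = 0 := hne c ((mem_subIdeal p hp _ c).2 hc)
        rw [Submodule.mem_span_singleton]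
        refine ⟨algebraMap k B r, ?_⟩
        rw [show b = r • j + (c : B) from (congrArg Subtype.val hac).symm, hc0, add_zero, smul_eq_mul, Algebra.smul_def]
      · rw [Submodule.span_le, Set.singleton_subset_iff]; exact hj
    have hfib : IsFibreProd (quotMk B K₁ hK₁) (quotMk B K₂ hK₂) (quotFactor hK₁ p (subIdeal_le p hp _))
        (quotFactor hK₂ p (subIdeal_le p hp _)) :=
      { w := by rw [quotMk_quotFactor, quotMk_quotFactor]
        inj := fun b₁ b₂ h₁ h₂ => by
          obtain ⟨hd, hd₁⟩ := Ideal.Quotient.eq.1 h₁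
          obtain ⟨_, hd₂⟩ := Ideal.Quotient.eq.1 h₂
          exact sub_eq_zero.1 (congrArg Subtype.val ((Submodule.disjoint_def.1 hW.disjoint) _ hd₁ hd₂))
        surj := fun a' a'' e => by
          obtain ⟨b', rfl⟩ := quotMk_surjective B K₁ hK₁ a'
          obtain ⟨b'', rfl⟩ := quotMk_surjective B K₂ hK₂ a''
          have hd : b'' - b' ∈ RingHom.ker p.toAlgHom := by
            rw [RingHom.mem_ker, map_sub, sub_eq_zero]; exact e.symm
          obtain ⟨a, ha, c, hc, hac⟩ := Submodule.mem_sup.1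
            (hW.sup_eq_top ▸ Submodule.mem_top : (⟨_, hd⟩ : RingHom.ker p.toAlgHom) ∈ _ ⊔ W₂)
          have hac' : (a : B) + c = b'' - b' := congrArg Subtype.val hac
          refine ⟨b' + a, Ideal.Quotient.eq.2 ?_, Ideal.Quotient.eq.2 ?_⟩
          · rw [add_sub_cancel_left]; exact (mem_subIdeal p hp _ a).2 ha
          · rw [show b' + (a : B) - b'' = -(c : B) by linear_combination hac']
            exact neg_mem ((mem_subIdeal p hp _ c).2 hc) }
    have hlift : ∀ (K : Ideal B) (hK : K ≤ IsLocalRing.maximalIdeal B) (hKp : K ≤ RingHom.ker p.toAlgHom)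
        (x : B), x ∈ K → x ≠ 0 → ∃ u', F.map (quotFactor hK p hKp) u' = u := fun K hK hKp x hx hx0 => by
      refine ih _ (isSemismallExt_quotFactor p hp hK hKp) (by have := finrank_lt p hK hKp hx hx0; omega) u
        fun q p' hq hqs hp' => h (quotMk B K hK ≫ q) p' ?_ (hqs.comp (quotMk_surjective B K hK)) hp'
      rw [Category.assoc, hq, quotMk_quotFactor]
    obtain ⟨u₁, hu₁⟩ := hlift K₁ hK₁ (subIdeal_le p hp _) j hjK hj0
    obtain ⟨u₂, hu₂⟩ := hlift K₂ hK₂ (subIdeal_le p hp _) j₂ hj₂ hj₂0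
    obtain ⟨w, hw⟩ := hF hfib (isSemismallExt_quotFactor p hp hK₂ (subIdeal_le p hp _)).1
      ⟨(u₁, u₂), hu₁.trans hu₂.symm⟩
    refine ⟨w, ?_⟩
    rw [← quotMk_quotFactor hK₁ p (subIdeal_le p hp _), map_comp',
      show F.map (quotMk B K₁ hK₁) w = u₁ from congrArg (fun z => z.1.1) hw, hu₁]

end Groth.Agent.HilbObs76
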