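import Groth.Agent.ArtFunLib.HilbMod
import Groth.Agent.ArtFunLib.HilbFib
import Groth.Agent.HilbLci76.Theta
import Groth.Agent.HilbFin76.Tangent
import Groth.Agent.HilbObs76.Split
import Groth.Prelude.Def_KLin

/-! The morphism on the kernel of restriction to the closed fibre attached to a functional on the kernel of an extension. -/

set_option autoImplicit false
set_option linter.style.haveILetI false
set_option backward.isDefEq.respectTransparency false
universe u

open CategoryTheory CategoryTheory.Limits AlgebraicGeometry ArtFun ArtFun.Art Opposite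

namespace Groth.Agent.HilbObs76

open Groth.Agent.ArtFunLib Groth.Agent.ArtFunLib.HilbAffine Groth.Agent.ArtFunLib.HilbSit
  Groth.Agent.ArtFunLib.HilbMod Groth.Agent.ArtFunLib.HilbFib

variable {k : Type u} [Field k] {X : Scheme.{u}} {x : X ⟶ specPt k} {I₀ : X.IdealSheafData} {B A : Art k k}

/-- The preimage in `X × Spec B` of an element over `A`. -/
noncomputable def PP (p : B ⟶ A) (IA : (localHilb X x I₀).obj A) : (XA x B).IdealSheafData :=
  IA.1.map (XAmap x p)

theorem PP_ideal (p : B ⟶ A) (hp : Function.Surjective p) (IA : (localHilb X x I₀).obj A) (U : X.affineOpens) :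
    (PP p IA).ideal (W x B U) = (IA.1.ideal (W x A U)).comap (pi x p U) := by
  haveI := isClosedImmersion_map x p hp
  exact Ideal.ext fun a => mem_map_iff (XAmap x p) IA.1 (W x B U) (W x A U) (pi_le x p U) (pi_le x p U).le a

theorem PP_h0 (p : B ⟶ A) (hp : Function.Surjective p) (IA : (localHilb X x I₀).obj A) (U : X.affineOpens) :
    ((PP p IA).ideal (W x B U)).map (rho x B U) = I₀.ideal U := by
  rw [PP_ideal p hp, show rho x B U = (rho x A U).comp (pi x p U) from RingHom.ext fun a => (rho_pi x p U a).symm,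
    ← Ideal.map_map, Ideal.map_comap_of_surjective _ (pi_spec x p hp U).1, HilbFib.map_rho IA U]

/-- Restriction to the closed fibre. -/
noncomputable def phi (p : B ⟶ A) (hp : Function.Surjective p) (IA : (localHilb X x I₀).obj A) :
    G (PP p IA) ⟶ ClSub.idealMod I₀ :=
  (exists_phi (PP p IA) I₀ (PP_h0 p hp IA)).choose

instance epi_phi (p : B ⟶ A) (hp : Function.Surjective p) (IA : (localHilb X x I₀).obj A) : Epi (phi p hp IA) :=
  (exists_phi (PP p IA) I₀ (PP_h0 p hp IA)).choose_spec.1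

theorem phi_spec (p : B ⟶ A) (hp : Function.Surjective p) (IA : (localHilb X x I₀).obj A) (U : X.affineOpens)
    (s : Γ(G (PP p IA), U.1)) :
    OmegaSh.idealSect I₀ U.1 ((phi p hp IA).app U.1 s) = rho x B U (el (PP p IA) U s) :=
  (exists_phi (PP p IA) I₀ (PP_h0 p hp IA)).choose_spec.2 U s

theorem pi_comp {B' : Art k k} (q : B ⟶ B') (p' : B' ⟶ A) (p : B ⟶ A) (hq : q ≫ p' = p) (U : X.affineOpens)
    (a : Γ(XA x B, (W x B U).1)) : pi x p' U (pi x q U a) = pi x p U a := by
  subst hq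
  have h1 : (XAmap x q).appLE (W x B U).1 (W x B' U).1 (pi_le x q U).le ≫
      (XAmap x p').appLE (W x B' U).1 (W x A U).1 (pi_le x p' U).le =
      (XAmap x (q ≫ p')).appLE (W x B U).1 (W x A U).1 (pi_le x (q ≫ p') U).le := by
    rw [Scheme.Hom.appLE_comp_appLE]
    exact appLE_congr (XAmap_comp x q p').symm _ _ _ _
  exact congr($h1 a)

/-- The comparison map along a quotient. -/
theorem exists_tau {B' : Art k k} (q : B ⟶ B') (p' : B' ⟶ A) (p : B ⟶ A) (hq : q ≫ p' = p)
    (hp : Function.Surjective p) (hp' : Function.Surjective p') (IA : (localHilb X x I₀).obj A) :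
    ∃ τ : G (PP p IA) ⟶ G (PP p' IA), τ ≫ phi p' hp' IA = phi p hp IA ∧
      ∀ (U : X.affineOpens) s, el (PP p' IA) U (τ.app U.1 s) = pi x q U (el (PP p IA) U s) := by
  have hex : ∀ (U : X.affineOpens) (s : Γ(G (PP p IA), U.1)),
      ∃ s', el (PP p' IA) U s' = pi x q U (el (PP p IA) U s) := fun U s => by
    refine exists_el _ U _ ?_
    rw [PP_ideal p' hp', Ideal.mem_comap, pi_comp q p' p hq]
    have := el_mem (PP p IA) U s
    rwa [PP_ideal p hp, Ideal.mem_comap] at this
  choose f hf using hex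
  obtain ⟨τ, hτ⟩ := FamilyHom.exists_hom_of_family (fun U => AddMonoidHom.mk' (f U) (fun s s' =>
      el_injective _ U (by rw [map_add, hf, hf, hf, map_add, map_add])))
    (fun U V hV s => by
      refine el_injective _ V ?_
      show el (PP p' IA) V ((G (PP p' IA)).presheaf.map (homOfLE hV).op (f U s)) = el (PP p' IA) V (f V _)
      rw [el_map _ U V hV, hf, hf, el_map _ U V hV, pi_map x q hV])
    (fun U r s => by
      refine el_injective _ U ?_
      show el (PP p' IA) U (f U (r • s)) = el (PP p' IA) U (r • f U s)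
      rw [el_smul, hf, hf, el_smul, map_mul, HilbFin76.pi_fst])
  have hτ' : ∀ (U : X.affineOpens) s, el (PP p' IA) U (τ.app U.1 s) = pi x q U (el (PP p IA) U s) := fun U s =>
    (congrArg _ (hτ U s)).trans (hf U s)
  refine ⟨τ, ?_, hτ'⟩
  refine Scheme.Modules.hom_ext _ _ fun V => ?_
  ext v
  refine FamilyHom.ext_affine _ V _ _ fun U hU => ?_
  refine (app_map (τ ≫ phi p' hp' IA) hU v).symm.trans (Eq.trans ?_ (app_map (phi p hp IA) hU v))
  refine OmegaLib.idealSect_injective I₀ U.1 ?_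
  show OmegaSh.idealSect I₀ U.1 ((phi p' hp' IA).app U.1 (τ.app U.1 _)) = _
  rw [phi_spec, phi_spec, hτ', rho_pi]

/-- `m P`. -/
noncomputable def mP (p : B ⟶ A) (IA : (localHilb X x I₀).obj A) (U : X.affineOpens) :
    Ideal Γ(XA x B, (W x B U).1) :=
  (IsLocalRing.maximalIdeal B).map (c x B U) * (PP p IA).ideal (W x B U)

theorem exists_rep (p : B ⟶ A) (hp : Function.Surjective p) (IA : (localHilb X x I₀).obj A) (U : X.affineOpens)
    (e : Γ(XA x B, (W x B U).1)) (he : e ∈ (PP p IA).ideal (W x B U)) (hρ : rho x B U e = 0) :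
    ∃ (μ : Γ(XA x B, (W x B U).1)) (n : ℕ) (t : Fin n → RingHom.ker p.toAlgHom)
      (z : Fin n → Γ(XA x B, (W x B U).1)),
      μ ∈ mP p IA U ∧ e = μ + ∑ j, c x B U (t j : B) * z j := by
  rw [PP_ideal p hp, Ideal.mem_comap] at he
  have h2 : pi x p U e ∈ (IsLocalRing.maximalIdeal A).map (c x A U) := by
    rw [← (rho_spec x A U).2, RingHom.mem_ker, rho_pi]; exact hρ
  have h3 := HilbRing.inf_map_le (c x A U) (flat_quotient x IA.1 IA.2.1 U) (IsLocalRing.maximalIdeal A)
    (show pi x p U e ∈ IA.1.ideal (W x A U) ⊓ (IsLocalRing.maximalIdeal A).map (c x A U) from ⟨he, h2⟩)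
  have hmap : (mP p IA U).map (pi x p U) =
      (IsLocalRing.maximalIdeal A).map (c x A U) * IA.1.ideal (W x A U) := by
    rw [mP, Ideal.map_mul, PP_ideal p hp, Ideal.map_comap_of_surjective _ (pi_spec x p hp U).1, Ideal.map_map,
      ← IsLocalRing.map_maximalIdeal_of_surjective p.toAlgHom.toRingHom hp, Ideal.map_map,
      show (pi x p U).comp (c x B U) = (c x A U).comp p.toAlgHom.toRingHom from RingHom.ext (pi_c x p U)]
  rw [← hmap] at h3
  obtain ⟨μ, hμ, hμe⟩ := (Ideal.mem_map_iff_of_surjective _ (pi_spec x p hp U).1).1 h3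
  have h4 : e - μ ∈ RingHom.ker (pi x p U) := by rw [RingHom.mem_ker, map_sub, hμe, sub_self]
  rw [(pi_spec x p hp U).2] at h4
  obtain ⟨n, z, g, hzg⟩ := Submodule.mem_span_set'.1 h4
  choose b hb hbg using fun i => (g i).2
  refine ⟨μ, n, fun j => ⟨b j, hb j⟩, z, hμ, ?_⟩
  rw [show ∑ j, c x B U (b j) * z j = e - μ from ?_, add_sub_cancel]
  rw [← hzg]
  exact Finset.sum_congr rfl fun i _ => by rw [hbg, smul_eq_mul, mul_comm]

/-- `κ` is the morphism attached to the functional `l`. -/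
def IsKap (p : B ⟶ A) (hp : Function.Surjective p) (IA : (localHilb X x I₀).obj A)
    (l : RingHom.ker p.toAlgHom →ₗ[k] k) (κ : kernel (phi p hp IA) ⟶ ClSub.quotMod I₀) : Prop :=
  ∀ (U : X.affineOpens) kk μ (n : ℕ) (t : Fin n → RingHom.ker p.toAlgHom) (z : Fin n → Γ(XA x B, (W x B U).1)),
    μ ∈ mP p IA U →
    el (PP p IA) U ((kernel.ι (phi p hp IA)).app U.1 kk) = μ + ∑ j, c x B U (t j : B) * z j →
    κ.app U.1 kk = I₀.subschemeι.app U.1 (∑ j, cU x U (l (t j)) * rho x B U (z j))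

theorem rho_ker (p : B ⟶ A) (hp : Function.Surjective p) (IA : (localHilb X x I₀).obj A) (U : X.affineOpens)
    (kk : Γ(kernel (phi p hp IA), U.1)) :
    rho x B U (el (PP p IA) U ((kernel.ι (phi p hp IA)).app U.1 kk)) = 0 := by
  have e0 : (phi p hp IA).app U.1 ((kernel.ι (phi p hp IA)).app U.1 kk) = 0 :=
    congr(($(kernel.condition (phi p hp IA))).app U.1 kk)
  rw [← phi_spec p hp IA, e0, map_zero]

theorem IsKap.unique {p : B ⟶ A} {hp : Function.Surjective p} {IA : (localHilb X x I₀).obj A}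
    {l : RingHom.ker p.toAlgHom →ₗ[k] k} {κ κ' : kernel (phi p hp IA) ⟶ ClSub.quotMod I₀}
    (h : IsKap p hp IA l κ) (h' : IsKap p hp IA l κ') : κ = κ' := by
  refine Scheme.Modules.hom_ext _ _ fun V => ?_
  ext v
  refine FamilyHom.ext_affine _ V _ _ fun U hU => ?_
  refine (app_map κ hU v).symm.trans (Eq.trans ?_ (app_map κ' hU v))
  generalize (kernel (phi p hp IA)).presheaf.map (homOfLE hU).op v = kk
  obtain ⟨μ, n, t, z, hμ, he⟩ := exists_rep p hp IA U _ (el_mem _ U _) (rho_ker p hp IA U kk)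
  rw [h U kk μ n t z hμ he, h' U kk μ n t z hμ he]

theorem isKap_zero (p : B ⟶ A) (hp : Function.Surjective p) (IA : (localHilb X x I₀).obj A) :
    IsKap p hp IA 0 0 := fun U kk μ n t z _ _ => by
  show (0 : Γ(ClSub.quotMod I₀, U.1)) = _
  simp only [LinearMap.zero_apply, map_zero, zero_mul, Finset.sum_const_zero]

theorem IsKap.add {p : B ⟶ A} {hp : Function.Surjective p} {IA : (localHilb X x I₀).obj A}
    {l l' : RingHom.ker p.toAlgHom →ₗ[k] k} {κ κ' : kernel (phi p hp IA) ⟶ ClSub.quotMod I₀}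
    (h : IsKap p hp IA l κ) (h' : IsKap p hp IA l' κ') : IsKap p hp IA (l + l') (κ + κ') :=
  fun U kk μ n t z hμ he => by
  show κ.app U.1 kk + κ'.app U.1 kk = _
  rw [h U kk μ n t z hμ he, h' U kk μ n t z hμ he]
  refine (map_add (I₀.subschemeι.app U.1).hom _ _).symm.trans (congrArg _ ?_)
  rw [← Finset.sum_add_distrib]
  exact Finset.sum_congr rfl fun j _ => by rw [LinearMap.add_apply, map_add, add_mul]

set_option maxHeartbeats 1000000 in
theorem IsKap.map {B' : Art k k} {q : B ⟶ B'} {p' : B' ⟶ A} {p : B ⟶ A} (hq : q ≫ p' = p)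
    (hp : Function.Surjective p) (hp' : Function.Surjective p') {IA : (localHilb X x I₀).obj A}
    {τ : G (PP p IA) ⟶ G (PP p' IA)} (hτ : τ ≫ phi p' hp' IA = phi p hp IA)
    (hτel : ∀ (U : X.affineOpens) s, el (PP p' IA) U (τ.app U.1 s) = pi x q U (el (PP p IA) U s))
    {l' : RingHom.ker p'.toAlgHom →ₗ[k] k} {l : RingHom.ker p.toAlgHom →ₗ[k] k}
    (hl : ∀ (j : RingHom.ker p.toAlgHom) (j' : RingHom.ker p'.toAlgHom), q (j : B) = (j' : B') → l j = l' j')
    {κ' : kernel (phi p' hp' IA) ⟶ ClSub.quotMod I₀} (h : IsKap p' hp' IA l' κ') :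
    IsKap p hp IA l (kernel.map (phi p hp IA) (phi p' hp' IA) τ (𝟙 _) (by rw [Category.comp_id, hτ]) ≫ κ') :=
  fun U kk μ n t z hμ he => by
  let τK := kernel.map (phi p hp IA) (phi p' hp' IA) τ (𝟙 _) (by rw [Category.comp_id, hτ])
  have hk : (kernel.ι (phi p' hp' IA)).app U.1 (τK.app U.1 kk) = τ.app U.1 ((kernel.ι (phi p hp IA)).app U.1 kk) :=
    congr(($(kernel.lift_ι (phi p' hp' IA) (kernel.ι (phi p hp IA) ≫ τ) _)).app U.1 kk)
  have hμ' : pi x q U μ ∈ mP p' IA U := by
    have h1 := Ideal.mem_map_of_mem (pi x q U) hμ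
    rw [mP, Ideal.map_mul, Ideal.map_map] at h1
    refine (Ideal.mul_mono ?_ ?_ : _ ≤ (IsLocalRing.maximalIdeal B').map (c x B' U) *
      (PP p' IA).ideal (W x B' U)) h1
    · refine Ideal.map_le_iff_le_comap.2 fun b hb => ?_
      rw [Ideal.mem_comap, RingHom.comp_apply, pi_c]
      refine Ideal.mem_map_of_mem _ ((mem_maximalIdeal_iff B' _).2 ?_)
      rw [Art.res_app]
      exact (mem_maximalIdeal_iff B b).1 hb
    · refine Ideal.map_le_iff_le_comap.2 fun a ha => ?_
      rw [PP_ideal p hp, Ideal.mem_comap] at ha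
      rw [Ideal.mem_comap, PP_ideal p' hp', Ideal.mem_comap, pi_comp q p' p hq]
      exact ha
  let t' : Fin n → RingHom.ker p'.toAlgHom := fun j => ⟨q (t j : B), by
    rw [RingHom.mem_ker]
    exact (congrArg (fun g : B ⟶ A => g (t j : B)) hq).trans (t j).2⟩
  show κ'.app U.1 (τK.app U.1 kk) = _
  rw [h U _ (pi x q U μ) n t' (fun j => pi x q U (z j)) hμ' (by
    rw [hk, hτel, he, map_add, map_sum]
    simp only [map_mul, pi_c, t'])]
  exact congrArg _ (Finset.sum_congr rfl fun j _ => by rw [← hl (t j) (t' j) rfl, rho_pi])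

section Over

variable [X.Over (Spec (CommRingCat.of k))] {I : (localHilb X (X ↘ Spec (CommRingCat.of k)) I₀).obj A}

theorem IsKap.smul {p : B ⟶ A} {hp : Function.Surjective p}
    {l : RingHom.ker p.toAlgHom →ₗ[k] k} {κ : kernel (phi p hp I) ⟶ ClSub.quotMod I₀}
    (h : IsKap p hp I l κ) (a : k) : IsKap p hp I (a • l) (a • κ) :=
  fun U kk μ n t z hμ he => by
  rw [KLin.smul_app_apply, h U kk μ n t z hμ he]
  have hc : cU (X ↘ Spec (CommRingCat.of k)) U a =
      X.presheaf.map (homOfLE (le_top : U.1 ≤ ⊤)).op (Coh.toGlobal (X ↘ Spec (CommRingCat.of k)) a) := rfl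
  rw [← hc]
  refine (map_mul (I₀.subschemeι.app U.1).hom _ _).symm.trans (congrArg _ ?_)
  rw [Finset.mul_sum]
  exact Finset.sum_congr rfl fun j _ => by rw [LinearMap.smul_apply, smul_eq_mul, map_mul, mul_assoc]

end Over

end Groth.Agent.HilbObs76
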