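import Groth.Agent.HilbObs76.Theory
import Groth.Agent.HilbLci76.Conormal
import Groth.Agent.HilbLci76.Local
import Groth.Agent.Lib.PnDualSheafHom
import Groth.Prelude.Def_Canon

/-! The obstruction theory with values in `H¹` of the normal sheaf. -/

set_option autoImplicit false
set_option linter.style.haveILetI false
set_option backward.isDefEq.respectTransparency false
universe u v

open CategoryTheory CategoryTheory.Limits AlgebraicGeometry ArtFun ArtFun.Art
open scoped TensorProduct

namespace Groth.Agent.HilbObs76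

open Groth.Agent.ArtFunLib

variable {k : Type u} [Field k]

/-- An obstruction theory can be moved along a linear equivalence. -/
theorem hasObsTheory_congr {F : Art k k ⥤ Type v} {V V' : Type u} [AddCommGroup V] [Module k V] [AddCommGroup V']
    [Module k V'] (e : V ≃ₗ[k] V') (h : HasObsTheory F V) : HasObsTheory F V' := by
  obtain ⟨T⟩ := h
  refine ⟨{ obs := fun p hp u => LinearMap.rTensor _ e.toLinearMap (T.obs p hp u)
            obs_eq_zero_iff := fun p hp u => ?_
            obs_quot := fun p hp K hK hKJ hq u => ?_ }⟩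
  · rw [← T.obs_eq_zero_iff p hp u]
    exact map_eq_zero_iff _ (LinearEquiv.rTensor _ e).injective
  · rw [T.obs_quot p hp K hK hKJ hq u]
    rw [← LinearMap.comp_apply (LinearMap.rTensor _ _), ← LinearMap.comp_apply (LinearMap.lTensor _ _),
      LinearMap.rTensor_comp_lTensor, LinearMap.lTensor_comp_rTensor]

/-- An isomorphism gives a linear equivalence on cohomology. -/
noncomputable def hhEquiv {X : Scheme.{u}} [X.Over (Spec (CommRingCat.of k))] {F G : X.Modules} (e : F ≅ G) (q : ℕ) :
    Coh.HH X F q ≃ₗ[k] Coh.HH X G q :=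
  LinearEquiv.ofLinearMap (Canon.HHlin k e.hom q) (Canon.HHlin k e.inv q)
    (LinearMap.ext fun x => by
      show Sheaf.H.map ((SheafOfModules.toSheaf X.ringCatSheaf).map e.hom) q
        (Sheaf.H.map ((SheafOfModules.toSheaf X.ringCatSheaf).map e.inv) q x) = x
      rw [← Sheaf.H.map_comp_apply, ← Functor.map_comp, e.inv_hom_id]
      erw [CategoryTheory.Functor.map_id]
      exact Sheaf.H.map_id_apply x)
    (LinearMap.ext fun x => by
      show Sheaf.H.map ((SheafOfModules.toSheaf X.ringCatSheaf).map e.inv) q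
        (Sheaf.H.map ((SheafOfModules.toSheaf X.ringCatSheaf).map e.hom) q x) = x
      rw [← Sheaf.H.map_comp_apply, ← Functor.map_comp, e.hom_inv_id]
      erw [CategoryTheory.Functor.map_id]
      exact Sheaf.H.map_id_apply x)

theorem hasObsTheory_normal {X : Scheme.{u}} [IsLocallyNoetherian X] [X.Over (Spec (CommRingCat.of k))]
    (I₀ : X.IdealSheafData) [I₀.subscheme.Over (Spec (CommRingCat.of k))]
    (hover : I₀.subschemeι ≫ (X ↘ Spec (CommRingCat.of k)) = I₀.subscheme ↘ Spec (CommRingCat.of k))
    (hreg : Mor2.IsRegularClosedImmersion I₀.subschemeι) [DCoh.HasSheafHom (Omega.conormal I₀.subschemeι)] :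
    HasObsTheory (localHilb X (X ↘ Spec (CommRingCat.of k)) I₀)
      (Coh.HH I₀.subscheme ((DCoh.sheafHom (Omega.conormal I₀.subschemeι)).obj
        (Coh.structureModule I₀.subscheme)) 1) := by
  letI : HasExt.{u} I₀.subscheme.Modules :=
    IsGrothendieckAbelian.hasExt (SheafOfModules.{u} I₀.subscheme.ringCatSheaf)
  have hlf := HilbLci76.isFinLocFree_conormal I₀.subschemeι hreg
  have hL : LocLift (X ↘ Spec (CommRingCat.of k)) I₀ := fun B A q hq IA y => by
    obtain ⟨U, hU, hy, rs, hrs, hI⟩ := hreg.2 y
    rw [Scheme.IdealSheafData.ker_subschemeι] at hI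
    exact ⟨⟨U, hU⟩, hy, HilbLci76.exists_local_lift I₀ rs hrs.toIsWeaklyRegular hI q hq IA⟩
  have h := hasObsTheory hover hL
  have hM : (Scheme.Modules.pullback I₀.subschemeι).obj (ClSub.idealMod I₀) = Omega.conormal I₀.subschemeι := by
    show _ = (Scheme.Modules.pullback I₀.subschemeι).obj (ClSub.idealMod I₀.subschemeι.ker)
    rw [Scheme.IdealSheafData.ker_subschemeι]
  rw [hM] at h
  obtain ⟨e⟩ := PnDual.nonempty_ext_linearEquiv_HH (A := k) hlf (Coh.structureModule I₀.subscheme) 1
  exact hasObsTheory_congr (e ≪≫ₗ hhEquiv (k := k)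
    ((AmpleVan.sheafHomIso (Omega.conormal I₀.subschemeι)).app (Coh.structureModule I₀.subscheme)).symm 1) h

end Groth.Agent.HilbObs76
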