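import Groth.Agent.HilbObs76.Kap
import Groth.Agent.HilbObs76.Abstract
import Groth.Agent.HilbLci76.Extend
import Groth.Agent.ArtFunLib.HilbIdeal

/-! Small extensions: the morphism on the kernel, its factorization, and lifts. -/

set_option autoImplicit false
set_option linter.style.haveILetI false
set_option backward.isDefEq.respectTransparency false
universe u

open CategoryTheory CategoryTheory.Limits AlgebraicGeometry ArtFun ArtFun.Art Opposite

namespace Groth.Agent.HilbObs76

open Groth.Agent.ArtFunLib Groth.Agent.ArtFunLib.HilbAffine Groth.Agent.ArtFunLib.HilbSit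
  Groth.Agent.ArtFunLib.HilbMod Groth.Agent.ArtFunLib.HilbFib Groth.Agent.ArtFunLib.HilbIdeal

variable {k : Type u} [Field k] {X : Scheme.{u}} {x : X ⟶ specPt k} {I₀ : X.IdealSheafData} {B A : Art k k}

section Sit

variable (p : B ⟶ A) (hp : Function.Surjective p) (t : B) (hkt : RingHom.ker p.toAlgHom = Ideal.span {t})
  (ht0 : t ≠ 0) (hm : IsLocalRing.maximalIdeal B * Ideal.span {t} = ⊥) (IA : (localHilb X x I₀).obj A)

include hp hkt ht0 hm in
theorem small_rep (U : X.affineOpens) (e : Γ(XA x B, (W x B U).1)) (he : e ∈ (PP p IA).ideal (W x B U))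
    (hρ : rho x B U e = 0) :
    ∃ μ z, μ ∈ (IsLocalRing.maximalIdeal B).map (c x B U) * (PP p IA).ideal (W x B U) ∧ e = μ + c x B U t * z := by
  rw [PP_ideal p hp] at he
  obtain ⟨μ, hμ, w, hw, e'⟩ := Submodule.mem_sup.1
    (HilbObsRing.inf_ker_le (sit x p hp t hkt ht0 hm U) (flat_quotient x IA.1 IA.2.1 U) ⟨he, RingHom.mem_ker.2 hρ⟩)
  obtain ⟨z, rfl⟩ := Ideal.mem_span_singleton'.1 hw
  exact ⟨μ, z, by rw [PP_ideal p hp]; exact hμ, e'.symm.trans (by rw [mul_comm z]; rfl)⟩

include hp hkt ht0 hm in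
theorem small_zero (U : X.affineOpens) (z : Γ(XA x B, (W x B U).1))
    (hz : c x B U t * z ∈ (IsLocalRing.maximalIdeal B).map (c x B U) * (PP p IA).ideal (W x B U)) :
    I₀.subschemeι.app U.1 (rho x B U z) = 0 := by
  rw [PP_ideal p hp] at hz
  have h := HilbObsRing.rho_mem_of_mem_mul (sit x p hp t hkt ht0 hm U) (flat_quotient x IA.1 IA.2.1 U) z hz
  rw [← RingHom.mem_ker, I₀.ker_subschemeι_app, ← HilbFib.map_rho IA U]
  exact h

include hkt ht0 in
theorem exists_functional (hpp : IsSemismallExt p) :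
    ∃ l : RingHom.ker p.toAlgHom →ₗ[k] k, l ⟨t, hkt.ge (Ideal.mem_span_singleton_self t)⟩ = 1 ∧
      ∀ j : RingHom.ker p.toAlgHom, (j : B) = algebraMap k B (l j) * t := by
  let tt : RingHom.ker p.toAlgHom := ⟨t, hkt.ge (Ideal.mem_span_singleton_self t)⟩
  let e : k →ₗ[k] RingHom.ker p.toAlgHom := LinearMap.toSpanSingleton k _ tt
  have he : Function.Bijective e := by
    refine ⟨fun a b h => ?_, fun j => ?_⟩
    · have h1 : a • t = b • t := congrArg Subtype.val h
      rw [← sub_eq_zero, ← sub_smul, Algebra.smul_def] at h1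
      have h2 := ArtFunLib.eq_zero_of_mul_eq_zero B ht0 h1
      rwa [B.res.commutes, Algebra.algebraMap_self, RingHom.id_apply, sub_eq_zero] at h2
    · obtain ⟨r, hr⟩ := Ideal.mem_span_singleton'.1 (hkt.le j.2)
      refine ⟨B.res r, Subtype.ext ?_⟩
      show B.res r • t = j
      rw [← mul_eq_res_smul p hpp r (hkt.ge (Ideal.mem_span_singleton_self t)), hr]
  let E := LinearEquiv.ofBijective e he
  refine ⟨E.symm.toLinearMap, ?_, fun j => ?_⟩
  · show E.symm tt = 1
    rw [LinearEquiv.symm_apply_eq]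
    exact (one_smul k tt).symm
  · have h := congrArg Subtype.val (E.apply_symm_apply j)
    exact h.symm.trans (Algebra.smul_def _ _)

include hkt ht0 hm in
/-- The normalized morphism of a small extension. -/
theorem exists_isKap_small (l : RingHom.ker p.toAlgHom →ₗ[k] k)
    (hl : ∀ j : RingHom.ker p.toAlgHom, (j : B) = algebraMap k B (l j) * t) :
    ∃ κ : kernel (phi p hp IA) ⟶ ClSub.quotMod I₀, IsKap p hp IA l κ ∧
      ∀ (U : X.affineOpens) kk μ z,
        μ ∈ (IsLocalRing.maximalIdeal B).map (c x B U) * (PP p IA).ideal (W x B U) →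
        el (PP p IA) U ((kernel.ι (phi p hp IA)).app U.1 kk) = μ + c x B U t * z →
        κ.app U.1 kk = I₀.subschemeι.app U.1 (rho x B U z) := by
  obtain ⟨κ, hκ⟩ := HilbLci76.exists_kappa (PP p IA) I₀ (phi p hp IA) (phi_spec p hp IA) t
    (fun U => (IsLocalRing.maximalIdeal B).map (c x B U) * (PP p IA).ideal (W x B U)) rfl
    (small_rep p hp t hkt ht0 hm IA) (small_zero p hp t hkt ht0 hm IA)
  refine ⟨κ, fun U kk μ n ts z hμ he => ?_, hκ⟩
  rw [hκ U kk μ (∑ j, c x B U (algebraMap k B (l (ts j))) * z j) hμ (by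
    rw [he, Finset.mul_sum]
    congr 1
    exact Finset.sum_congr rfl fun j _ => by rw [hl (ts j), map_mul]; ring)]
  refine congrArg _ ?_
  rw [map_sum]
  exact Finset.sum_congr rfl fun j _ => by rw [map_mul, ← HilbFin76.fst_cU, rho_fst]

end Sit

section Fact

variable (p : B ⟶ A) (hp : Function.Surjective p) (t : B)
  (hkt : RingHom.ker p.toAlgHom = Ideal.span {t})
  (ht0 : t ≠ 0) (hm : IsLocalRing.maximalIdeal B * Ideal.span {t} = ⊥) (IA : (localHilb X x I₀).obj A)
  (κ : kernel (phi p hp IA) ⟶ ClSub.quotMod I₀)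
  (hκ : ∀ (U : X.affineOpens) kk μ z,
        μ ∈ (IsLocalRing.maximalIdeal B).map (c x B U) * (PP p IA).ideal (W x B U) →
        el (PP p IA) U ((kernel.ι (phi p hp IA)).app U.1 kk) = μ + c x B U t * z →
        κ.app U.1 kk = I₀.subschemeι.app U.1 (rho x B U z))

include hkt ht0 hm hκ in
theorem fact_small
    (hloc : ∀ y : I₀.subscheme, ∃ U : X.affineOpens, I₀.subschemeι y ∈ U.1 ∧
      ∃ J : Ideal Γ(XA x B, (W x B U).1), ((Ideal.Quotient.mk J).comp (c x B U)).Flat ∧
        J.map (pi x p U) = IA.1.ideal (W x A U)) :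
    Fact (Scheme.Modules.pullbackPushforwardAdjunction I₀.subschemeι) (Coh.structureModule I₀.subscheme)
      (phi p hp IA) κ := by
  let E := pushout (kernel.ι (phi p hp IA)) κ
  let a : ClSub.quotMod I₀ ⟶ E := pushout.inr _ _
  refine fact_of_mono _ _ (phi p hp IA) κ a (pushout.inl _ _) pushout.condition ?_
  refine HilbLci76.mono_pullback_of_locally_split I₀.subschemeι a fun y => ?_
  obtain ⟨U, hy, J, hJ, hJπ⟩ := hloc y
  obtain ⟨θ, hθ⟩ := HilbLci76.exists_local_extend (PP p IA) I₀ p hp t hkt (fun b hb => by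
    rw [← Ideal.mem_bot, ← hm]; exact Ideal.mul_mem_mul hb (Ideal.mem_span_singleton_self t)) ht0 IA
    (PP_ideal p hp IA) (phi p hp IA) κ (phi_spec p hp IA) (small_rep p hp t hkt ht0 hm IA) hκ U J hJ hJπ
  have hpo := (IsPushout.of_hasPushout (kernel.ι (phi p hp IA)) κ).map (Scheme.Modules.restrictFunctor U.1.ι)
  exact ⟨U.1, hy, hpo.desc θ (𝟙 _) (by rw [hθ, Category.comp_id]), hpo.inr_desc _ _ _⟩

include hkt ht0 hm hκ in
theorem extend_of_lift (I : (localHilb X x I₀).obj B) (hI : (localHilb X x I₀).map p I = IA) :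
    ∃ θ : G (PP p IA) ⟶ ClSub.quotMod I₀, kernel.ι (phi p hp IA) ≫ θ = κ := by
  have hIπ : ∀ U, (I.1.ideal (W x B U)).map (pi x p U) = IA.1.ideal (W x A U) := map_pi p I hI
  have hex : ∀ (U : X.affineOpens) (s : Γ(G (PP p IA), U.1)),
      ∃ j z, j ∈ I.1.ideal (W x B U) ∧ el (PP p IA) U s = j + c x B U t * z := fun U s => by
    have h1 : pi x p U (el (PP p IA) U s) ∈ IA.1.ideal (W x A U) :=
      Ideal.mem_comap.1 (PP_ideal p hp IA U ▸ el_mem (PP p IA) U s)
    rw [← hIπ, Ideal.mem_map_iff_of_surjective _ (pi_spec x p hp _).1] at h1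
    obtain ⟨j, hj, hje⟩ := h1
    have h2 : el (PP p IA) U s - j ∈ RingHom.ker (pi x p U) := by rw [RingHom.mem_ker, map_sub, hje, sub_self]
    rw [(pi_spec x p hp _).2, show RingHom.ker p.toAlgHom.toRingHom = Ideal.span {t} from hkt, Ideal.map_span,
      Set.image_singleton, Ideal.mem_span_singleton] at h2
    obtain ⟨z, hz⟩ := h2
    exact ⟨j, z, hj, by rw [← hz, add_sub_cancel]⟩
  choose fj fz hfj hfe using hex
  let f : ∀ U : X.affineOpens, Γ(G (PP p IA), U.1) → Γ(ClSub.quotMod I₀, U.1) := fun U s =>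
    I₀.subschemeι.app U.1 (rho x B U (fz U s))
  have hval : ∀ U s j z, j ∈ I.1.ideal (W x B U) → el (PP p IA) U s = j + c x B U t * z →
      f U s = I₀.subschemeι.app U.1 (rho x B U z) := fun U s j z hj he => by
    rw [← sub_eq_zero]
    show I₀.subschemeι.app _ (rho x B _ (fz U s)) - I₀.subschemeι.app _ (rho x B _ z) = 0
    rw [← map_sub, ← map_sub, ← RingHom.mem_ker, I₀.ker_subschemeι_app, ← map_rho I U]
    have h1 : c x B U t * (fz U s - z) ∈ I.1.ideal (W x B U) := by
      rw [show c x B U t * (fz U s - z) = j - fj U s by linear_combination (hfe U s).symm.trans he]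
      exact sub_mem hj (hfj U s)
    have h2 := HilbRing.mem_of_smul_mem (c x B U) (flat_quotient x I.1 I.2.1 U) t
      (IsLocalRing.maximalIdeal B) (fun b hb => by
        by_contra hnb
        exact ht0 ((IsLocalRing.notMem_maximalIdeal.1 hnb).mul_left_eq_zero.mp hb)) _ h1
    obtain ⟨a, ha, b, hb, hab⟩ := Submodule.mem_sup.1 h2
    rw [← hab, map_add, RingHom.mem_ker.1 ((rho_spec x B U).2.ge ha), zero_add]
    exact Ideal.mem_map_of_mem _ hb
  have hadd : ∀ U s s', f U (s + s') = f U s + f U s' := fun U s s' => by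
    rw [hval U (s + s') (fj U s + fj U s') (fz U s + fz U s') (add_mem (hfj U s) (hfj U s')) (by
      rw [map_add, hfe U s, hfe U s']; ring), map_add]
    exact map_add (I₀.subschemeι.app U.1).hom _ _
  obtain ⟨θ, hθ⟩ := FamilyHom.exists_hom_of_family (fun U => AddMonoidHom.mk' (f U) (hadd U))
    (fun U V hV s => by
      show (ClSub.quotMod I₀).presheaf.map (homOfLE hV).op (f U s) = f V ((G (PP p IA)).presheaf.map (homOfLE hV).op s)
      rw [hval V ((G (PP p IA)).presheaf.map (homOfLE hV).op s)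
        ((XA x B).presheaf.map (homOfLE (W_mono x B hV)).op (fj U s))
        ((XA x B).presheaf.map (homOfLE (W_mono x B hV)).op (fz U s))
        (I.1.ideal_le_comap_ideal (W_mono x B hV) (hfj U s))
        (by rw [el_map _ U V hV, hfe U s, map_add, map_mul, c_map x B hV]), rho_map x B hV]
      exact (congr($(I₀.subschemeι.naturality (homOfLE hV).op) (rho x B U (fz U s)))).symm)
    (fun U r s => by
      show f U (r • s) = r • f U s
      rw [hval U _ (fstPull x B U r * fj U s) (fstPull x B U r * fz U s) (Ideal.mul_mem_left _ _ (hfj U s))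
        (by rw [el_smul, hfe U s]; ring), map_mul, rho_fst]
      exact map_mul (I₀.subschemeι.app U.1).hom _ _)
  refine ⟨θ, Scheme.Modules.hom_ext _ _ fun V => ?_⟩
  ext v
  refine FamilyHom.ext_affine _ V _ _ fun U hU => ?_
  refine (app_map (kernel.ι (phi p hp IA) ≫ θ) hU v).symm.trans (Eq.trans ?_ (app_map κ hU v))
  generalize (kernel (phi p hp IA)).presheaf.map (homOfLE hU).op v = kk
  obtain ⟨μ, z, hμ, he⟩ := small_rep p hp t hkt ht0 hm IA U _ (el_mem _ U _) (rho_ker p hp IA U kk)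
  rw [hκ U kk μ z hμ he]
  show θ.app U.1 ((kernel.ι (phi p hp IA)).app U.1 kk) = _
  refine (hθ U _).trans (hval U _ μ z ?_ he)
  refine (Ideal.mul_le.2 fun a ha e he' => ?_ :
    (IsLocalRing.maximalIdeal B).map (c x B U) * (PP p IA).ideal (W x B U) ≤ I.1.ideal (W x B U)) hμ
  obtain ⟨s, rfl⟩ := exists_el _ U e he'
  have ha' : a * c x B U t = 0 := by
    have : (IsLocalRing.maximalIdeal B).map (c x B U) ≤
        LinearMap.ker (LinearMap.mulRight Γ(XA x B, (W x B U).1) (c x B U t)) :=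
      Ideal.map_le_iff_le_comap.2 fun b hb => by
        show c x B U b * c x B U t = 0
        rw [← map_mul, show b * t = 0 from Ideal.mem_bot.1 (hm ▸ Ideal.mul_mem_mul hb
          (Ideal.mem_span_singleton_self t)), map_zero]
    exact this ha
  rw [hfe U s, mul_add, ← mul_assoc, ha', zero_mul, add_zero]
  exact Ideal.mul_mem_left _ _ (hfj U s)

include hkt ht0 hm hκ in
theorem lift_of_extend (θ : G (PP p IA) ⟶ ClSub.quotMod I₀) (hθκ : kernel.ι (phi p hp IA) ≫ θ = κ) :
    ∃ I : (localHilb X x I₀).obj B, (localHilb X x I₀).map p I = IA := by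
  let P := PP p IA
  have hpt : p t = 0 := RingHom.mem_ker.1 (hkt.ge (Ideal.mem_span_singleton_self t))
  have htm : t ∈ IsLocalRing.maximalIdeal B :=
    ArtFunLib.ker_le_maximalIdeal p (hkt.ge (Ideal.mem_span_singleton_self t))
  have hP := PP_ideal p hp IA
  have hθ : ∀ (U : X.affineOpens) s μ z, μ ∈ (IsLocalRing.maximalIdeal B).map (c x B U) * P.ideal (W x B U) →
      el P U s = μ + c x B U t * z → θ.app U.1 s = I₀.subschemeι.app U.1 (rho x B U z) := fun U s μ z hμ he => by
    have hρ0 : rho x B U (el P U s) = 0 := by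
      have e1 : ∀ a ∈ (IsLocalRing.maximalIdeal B).map (c x B U), rho x B U a = 0 := fun a ha =>
        RingHom.mem_ker.1 ((rho_spec x B U).2.ge ha)
      rw [he, map_add, map_mul, e1 μ (Ideal.mul_le_left hμ),
        e1 (c x B U t) (Ideal.mem_map_of_mem _ htm), zero_mul, add_zero]
    have hs0 : (phi p hp IA).app U.1 s = 0 :=
      OmegaLib.idealSect_injective I₀ U.1 (by rw [phi_spec p hp IA, hρ0, map_zero])
    have hk := OmegaSh.ι_kerLift (phi p hp IA) U.1 s hs0
    have e2 : θ.app U.1 ((kernel.ι (phi p hp IA)).app U.1 (OmegaSh.kerLift (phi p hp IA) U.1 s hs0)) =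
        κ.app U.1 (OmegaSh.kerLift (phi p hp IA) U.1 s hs0) := congr(($hθκ).app U.1 _)
    rw [hk] at e2
    exact e2.trans (hκ U _ μ z hμ (by rw [hk, he]))
  have hlin : ∀ (U : X.affineOpens) s (R : Γ(XA x B, (W x B U).1)) s', el P U s' = R * el P U s →
      θ.app U.1 s' = rho x B U R • θ.app U.1 s := fun U s R s' he => by
    rw [← Scheme.Modules.Hom.app_smul, ← sub_eq_zero, ← map_sub]
    rw [hθ U _ ((R - fstPull x B U (rho x B U R)) * el P U s) 0 ?_ ?_, map_zero]
    · exact map_zero (I₀.subschemeι.app U.1).hom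
    · refine Ideal.mul_mem_mul ?_ (el_mem P U s)
      rw [← (rho_spec x B U).2, RingHom.mem_ker, map_sub, rho_fst, sub_self]
    · rw [mul_zero, add_zero, sub_mul, ← he, ← el_smul, map_sub]
  obtain ⟨I, hI⟩ := exists_ideal P I₀ θ hlin
  have hcz : ∀ U z, ∃ s, el P U s = c x B U t * z ∧ θ.app U.1 s = I₀.subschemeι.app U.1 (rho x B U z) := fun U z => by
    obtain ⟨s, hs⟩ := exists_el P U (c x B U t * z) (by
      rw [hP, Ideal.mem_comap, map_mul, pi_c, hpt, map_zero, zero_mul]; exact zero_mem _)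
    exact ⟨s, hs, hθ U s 0 z (zero_mem _) (by rw [hs, zero_add])⟩
  have hmapA : ∀ U, (I.ideal (W x B U)).map (pi x p U) = IA.1.ideal (W x A U) := fun U => by
    refine le_antisymm (Ideal.map_le_iff_le_comap.2 fun a ha => ?_) fun α hα => ?_
    · obtain ⟨s, rfl, -⟩ := (hI U a).1 ha
      exact hP U ▸ el_mem P U s
    · obtain ⟨a, rfl⟩ := (pi_spec x p hp U).1 α
      obtain ⟨s, hs⟩ := exists_el P U a (by rw [hP]; exact hα)
      obtain ⟨w, hw⟩ := I₀.subschemeι_app_surjective U (θ.app U.1 s)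
      obtain ⟨z, hz⟩ := (rho_spec x B U).1 w
      obtain ⟨s', hs', hs'θ⟩ := hcz U z
      have hmem : a - c x B U t * z ∈ I.ideal (W x B U) :=
        (hI U _).2 ⟨s - s', by rw [map_sub, hs, hs'], by rw [map_sub, hs'θ, hz, hw]; exact sub_self _⟩
      have h5 := Ideal.mem_map_of_mem (pi x p U) hmem
      rwa [map_sub, map_mul, pi_c, hpt, map_zero, zero_mul, sub_zero] at h5
  have hcomap : I.comap (XAmap x p) = IA.1 := HilbAffine.ext_ideal x fun U => by
    rw [comap_map_ideal, hmapA]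
  refine ⟨⟨I, ?_, ?_⟩, Subtype.ext hcomap⟩
  · refine flat_of_ideals I fun U => ?_
    refine HilbObsRing.flat_of_lift (sit x p hp t hkt ht0 hm U) (flat_quotient x IA.1 IA.2.1 U) (rho_spec x B U).1
      (I.ideal (W x B U)) (hmapA U) fun z hz => ?_
    obtain ⟨s, hs, hs0⟩ := (hI U _).1 hz
    obtain ⟨s', hs', hs'θ⟩ := hcz U z
    obtain rfl : s = s' := el_injective P U (hs.trans hs'.symm)
    show rho x B U z ∈ (IA.1.ideal (W x A U)).map (rho x A U)
    rw [HilbFib.map_rho IA U, ← I₀.ker_subschemeι_app, RingHom.mem_ker]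
    exact hs'θ.symm.trans hs0
  · rw [← XAincl_XAmap x p, Scheme.IdealSheafData.comap_comp, hcomap, IA.2.2]

end Fact

end Groth.Agent.HilbObs76
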