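import Groth.Agent.HilbObs76.Small
import Groth.Agent.Algz7.PullbackFormal
import Mathlib.LinearAlgebra.Dual.Basis

/-! An obstruction theory for the local Hilbert functor of a locally unobstructed closed subscheme. -/

set_option autoImplicit false
set_option linter.style.haveILetI false
set_option backward.isDefEq.respectTransparency false
universe u

open CategoryTheory CategoryTheory.Limits AlgebraicGeometry ArtFun ArtFun.Art Opposite
open scoped TensorProduct

namespace Groth.Agent.HilbObs76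

open Groth.Agent.ArtFunLib Groth.Agent.ArtFunLib.HilbAffine

variable {k : Type u} [Field k] {X : Scheme.{u}} [X.Over (Spec (CommRingCat.of k))] {I₀ : X.IdealSheafData}
  [I₀.subscheme.Over (Spec (CommRingCat.of k))]

/-- Local lifts exist along small extensions. -/
def LocLift (x : X ⟶ specPt k) (I₀ : X.IdealSheafData) : Prop :=
  ∀ ⦃B A : Art k k⦄ (p : B ⟶ A), IsSmallExt p → ∀ (IA : (localHilb X x I₀).obj A) (y : I₀.subscheme),
    ∃ U : X.affineOpens, I₀.subschemeι y ∈ U.1 ∧
      ∃ J : Ideal Γ(XA x B, (W x B U).1), ((Ideal.Quotient.mk J).comp (c x B U)).Flat ∧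
        J.map (HilbAffine.pi x p U) = IA.1.ideal (W x A U)

omit [X.Over (Spec (CommRingCat.of k))] [I₀.subscheme.Over (Spec (CommRingCat.of k))] in
theorem eq_sum_tmul {V W : Type u} [AddCommGroup V] [Module k V] [AddCommGroup W] [Module k W] {ι : Type*}
    [Fintype ι] (b : Module.Basis ι k W) (w : V ⊗[k] W) :
    w = ∑ j, (TensorProduct.rid k V (LinearMap.lTensor V (b.coord j) w)) ⊗ₜ b j := by
  induction w using TensorProduct.induction_on with
  | zero => simp
  | tmul v x =>
    simp only [LinearMap.lTensor_tmul, TensorProduct.rid_tmul, TensorProduct.smul_tmul]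
    rw [← TensorProduct.tmul_sum]
    congr 1
    exact (b.sum_repr x).symm
  | add a c ha hc =>
    simp only [map_add, TensorProduct.add_tmul, Finset.sum_add_distrib]
    exact congrArg₂ (· + ·) ha hc

variable (hover : I₀.subschemeι ≫ (X ↘ Spec (CommRingCat.of k)) = I₀.subscheme ↘ Spec (CommRingCat.of k))

include hover in
theorem symm_smul (a : k) {M : X.Modules} (κ : M ⟶ ClSub.quotMod I₀) :
    ((Scheme.Modules.pullbackPushforwardAdjunction I₀.subschemeι).homEquiv M (Coh.structureModule I₀.subscheme)).symm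
        (a • κ) =
      a • ((Scheme.Modules.pullbackPushforwardAdjunction I₀.subschemeι).homEquiv M
        (Coh.structureModule I₀.subscheme)).symm κ := by
  let adj := Scheme.Modules.pullbackPushforwardAdjunction I₀.subschemeι
  have g : ∀ z : (Scheme.Modules.pullback I₀.subschemeι).obj M ⟶ Coh.structureModule I₀.subscheme,
      adj.homEquiv _ _ (a • z) = a • adj.homEquiv _ _ z := fun z => by
    rw [KLin.smul_def, KLin.smul_def,
      show Formal.smulMod k ((Scheme.Modules.pullback I₀.subschemeι).obj M) a ≫ z =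
        z ≫ Formal.smulMod k (Coh.structureModule I₀.subscheme) a from (KLin.comp_smulModΓ _ _).symm,
      Adjunction.homEquiv_naturality_right, Algz7.pushforward_smulMod I₀.subschemeι hover]
    exact KLin.comp_smulModΓ _ _
  rw [Equiv.symm_apply_eq]
  exact ((congrArg (a • ·) ((adj.homEquiv _ _).apply_symm_apply κ)).symm.trans (g _).symm)

variable {B A : Art k k} (hL : LocLift (X ↘ Spec (CommRingCat.of k)) I₀)

omit [I₀.subscheme.Over (Spec (CommRingCat.of k))] in
include hL in
theorem exists_kap (p : B ⟶ A) (hp : IsSemismallExt p) (IA : (localHilb X (X ↘ Spec (CommRingCat.of k)) I₀).obj A)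
    (l : RingHom.ker p.toAlgHom →ₗ[k] k) :
    ∃ κ : kernel (phi p hp.1 IA) ⟶ ClSub.quotMod I₀, IsKap p hp.1 IA l κ ∧
      Fact (Scheme.Modules.pullbackPushforwardAdjunction I₀.subschemeι) (Coh.structureModule I₀.subscheme)
        (phi p hp.1 IA) κ := by
  by_cases hl0 : l = 0
  · subst hl0
    refine ⟨0, isKap_zero p hp.1 IA, 0, ?_⟩
    rw [comp_zero, Adjunction.homEquiv_counit, Functor.map_zero, zero_comp]
  obtain ⟨j₀, hj₀⟩ : ∃ j, l j = 1 := by
    obtain ⟨j, hj⟩ := LinearMap.surjective hl0 1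
    exact ⟨j, hj⟩
  let K := subIdeal p hp (LinearMap.ker l)
  have hKp : K ≤ RingHom.ker p.toAlgHom := subIdeal_le p hp _
  have hK : K ≤ IsLocalRing.maximalIdeal B := hKp.trans (ker_le_maximalIdeal p)
  let q := quotMk B K hK
  let p' := quotFactor hK p hKp
  let t : quot B K hK := q (j₀ : B)
  have hq : q ≫ p' = p := quotMk_quotFactor hK p hKp
  have hp' : IsSemismallExt p' := isSemismallExt_quotFactor p hp hK hKp
  have hker : RingHom.ker p'.toAlgHom = Ideal.span {t} := by
    refine le_antisymm (fun a ha => ?_) ((Ideal.span_singleton_le_iff_mem _).2 (kerToQuot hK p hKp j₀).2)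
    obtain ⟨⟨b, hb⟩, hba⟩ := kerToQuot_surjective p hK hKp ⟨a, ha⟩
    refine Ideal.mem_span_singleton'.2 ⟨algebraMap k (quot B K hK) (l ⟨b, hb⟩), ?_⟩
    refine Eq.trans ?_ (congrArg Subtype.val hba)
    show algebraMap k _ (l ⟨b, hb⟩) * Ideal.Quotient.mk K (j₀ : B) = Ideal.Quotient.mk K b
    rw [show algebraMap k ((B : Type u) ⧸ K) (l ⟨b, hb⟩) = Ideal.Quotient.mk K (algebraMap k B (l ⟨b, hb⟩)) from rfl,
      ← map_mul, Ideal.Quotient.eq, ← Algebra.smul_def]
    refine (mem_subIdeal p hp _ (l ⟨b, hb⟩ • j₀ - ⟨b, hb⟩)).2 ?_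
    rw [LinearMap.mem_ker, map_sub, map_smul, hj₀, smul_eq_mul, mul_one, sub_self]
  have ht0 : t ≠ 0 := fun h => by
    have := (mem_subIdeal p hp _ j₀).1 (Ideal.Quotient.eq_zero_iff_mem.1 h)
    rw [LinearMap.mem_ker, hj₀] at this
    exact one_ne_zero this
  have hm : IsLocalRing.maximalIdeal (quot B K hK) * Ideal.span {t} = ⊥ := hker ▸ hp'.2
  have hsmall : IsSmallExt p' := ⟨hp'.1, fun h => ht0 (by
    rw [h] at hker
    exact Ideal.span_singleton_eq_bot.1 hker.symm), ⟨⟨t, hker⟩⟩, hp'.2⟩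
  obtain ⟨l', -, hl'⟩ := exists_functional p' t hker ht0 hp'
  obtain ⟨κ', hκ', hκ''⟩ := exists_isKap_small p' hp'.1 t hker ht0 hm IA l' hl'
  have hF := fact_small p' hp'.1 t hker ht0 hm IA κ' hκ'' (hL p' hsmall IA)
  obtain ⟨τ, hτ, hτel⟩ := exists_tau q p' p hq hp.1 hp'.1 IA
  refine ⟨_, hκ'.map hq hp.1 hp'.1 hτ hτel (fun j j' e => ?_), (fact_map _ _ _ _ τ hτ hF).1⟩
  have h1 : Ideal.Quotient.mk K (j : B) = Ideal.Quotient.mk K (algebraMap k B (l' j') * (j₀ : B)) := by
    refine (e.trans (hl' j')).trans ?_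
    rfl
  rw [Ideal.Quotient.eq, ← Algebra.smul_def] at h1
  have h2 := (mem_subIdeal p hp _ (j - l' j' • j₀)).1 h1
  rw [LinearMap.mem_ker, map_sub, map_smul, hj₀, smul_eq_mul, mul_one, sub_eq_zero] at h2
  exact h2

variable [HasExt.{u} I₀.subscheme.Modules]

open Classical in
/-- The obstruction as a linear map on functionals. -/
noncomputable def Omega' (p : B ⟶ A) (hp : IsSemismallExt p) (IA : (localHilb X (X ↘ Spec (CommRingCat.of k)) I₀).obj A) :
    (RingHom.ker p.toAlgHom →ₗ[k] k) →ₗ[k] Abelian.Ext.{u}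
      ((Scheme.Modules.pullback I₀.subschemeι).obj (ClSub.idealMod I₀)) (Coh.structureModule I₀.subscheme) 1 where
  toFun l := cls (Scheme.Modules.pullbackPushforwardAdjunction I₀.subschemeι) (Coh.structureModule I₀.subscheme)
    (phi p hp.1 IA) (exists_kap hL p hp IA l).choose
  map_add' l l' := by
    have h := (exists_kap hL p hp IA l).choose_spec
    have h' := (exists_kap hL p hp IA l').choose_spec
    rw [(exists_kap hL p hp IA (l + l')).choose_spec.1.unique (h.1.add h'.1)]
    exact (fact_add _ _ _ h.2 h'.2).2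
  map_smul' a l := by
    have h := (exists_kap hL p hp IA l).choose_spec
    rw [RingHom.id_apply, (exists_kap hL p hp IA (a • l)).choose_spec.1.unique (h.1.smul a)]
    exact (fact_smul _ _ _ (fun c κ => symm_smul hover c κ) a h.2).2

theorem Omega_eq (p : B ⟶ A) (hp : IsSemismallExt p) (IA : (localHilb X (X ↘ Spec (CommRingCat.of k)) I₀).obj A)
    {l : RingHom.ker p.toAlgHom →ₗ[k] k} {κ : kernel (phi p hp.1 IA) ⟶ ClSub.quotMod I₀} (h : IsKap p hp.1 IA l κ) :
    Omega' hover hL p hp IA l =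
      cls (Scheme.Modules.pullbackPushforwardAdjunction I₀.subschemeι) (Coh.structureModule I₀.subscheme)
        (phi p hp.1 IA) κ := by
  show cls _ _ _ _ = _
  rw [(exists_kap hL p hp IA l).choose_spec.1.unique h]

theorem Omega_map {B' : Art k k} (q : B ⟶ B') (p' : B' ⟶ A) (p : B ⟶ A) (hq : q ≫ p' = p) (hp : IsSemismallExt p)
    (hp' : IsSemismallExt p') (IA : (localHilb X (X ↘ Spec (CommRingCat.of k)) I₀).obj A)
    (l' : RingHom.ker p'.toAlgHom →ₗ[k] k) (l : RingHom.ker p.toAlgHom →ₗ[k] k)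
    (hl : ∀ (j : RingHom.ker p.toAlgHom) (j' : RingHom.ker p'.toAlgHom), q (j : B) = (j' : B') → l j = l' j') :
    Omega' hover hL p hp IA l = Omega' hover hL p' hp' IA l' := by
  obtain ⟨κ', hκ', hF⟩ := exists_kap hL p' hp' IA l'
  obtain ⟨τ, hτ, hτel⟩ := exists_tau q p' p hq hp.1 hp'.1 IA
  rw [Omega_eq hover hL p' hp' IA hκ', Omega_eq hover hL p hp IA (hκ'.map hq hp.1 hp'.1 hτ hτel hl)]
  exact (fact_map _ _ _ _ τ hτ hF).2

theorem Omega_eq_zero_iff (p : B ⟶ A) (hp : IsSemismallExt p)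
    (IA : (localHilb X (X ↘ Spec (CommRingCat.of k)) I₀).obj A) :
    Omega' hover hL p hp IA = 0 ↔
      ∃ I, (localHilb X (X ↘ Spec (CommRingCat.of k)) I₀).map p I = IA := by
  constructor
  · intro h
    refine exists_lift_of_small (F := localHilb X (X ↘ Spec (CommRingCat.of k)) I₀)
      (fun hf hs => (HilbFib.cmp_bijective X _ I₀ hf hs).2) _ p hp le_rfl IA fun {B'} q p' hq _ hp' => ?_
    obtain ⟨t, hkt⟩ := hp'.2.2.1
    have ht0 : t ≠ 0 := fun h0 => hp'.2.1 (hkt.trans (by
      show Ideal.span {t} = ⊥; rw [h0, Ideal.span_singleton_zero]))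
    have hm : IsLocalRing.maximalIdeal B' * Ideal.span {t} = ⊥ := by
      show IsLocalRing.maximalIdeal B' * Submodule.span B' {t} = ⊥
      rw [← hkt]; exact hp'.2.2.2
    obtain ⟨l', -, hl'⟩ := exists_functional p' t hkt ht0 hp'.isSemismallExt
    obtain ⟨κ', hκ', hκ''⟩ := exists_isKap_small p' hp'.1 t hkt ht0 hm IA l' hl'
    have hF := fact_small p' hp'.1 t hkt ht0 hm IA κ' hκ'' (hL p' hp' IA)
    have hmem : ∀ j : RingHom.ker p.toAlgHom, q (j : B) ∈ RingHom.ker p'.toAlgHom := fun j => by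
      rw [RingHom.mem_ker]
      exact (congrArg (fun g : B ⟶ A => g (j : B)) hq).trans j.2
    let l : RingHom.ker p.toAlgHom →ₗ[k] k :=
      { toFun := fun j => l' ⟨q (j : B), hmem j⟩
        map_add' := fun a b => by
          rw [← map_add]
          exact congrArg l' (Subtype.ext (map_add q.toAlgHom _ _))
        map_smul' := fun a b => by
          rw [RingHom.id_apply, ← map_smul]
          exact congrArg l' (Subtype.ext (map_smul q.toAlgHom a _)) }
    have h0 := Omega_map hover hL q p' p hq hp hp'.isSemismallExt IA l' l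
      (fun j j' e => congrArg l' (Subtype.ext e))
    rw [h, LinearMap.zero_apply, Omega_eq hover hL p' hp'.isSemismallExt IA hκ'] at h0
    obtain ⟨θ, hθ⟩ := (cls_eq_zero_iff _ _ _ hF).1 h0.symm
    exact lift_of_extend p' hp'.1 t hkt ht0 hm IA κ' hκ'' θ hθ
  · rintro ⟨I, hI⟩
    refine LinearMap.ext fun l => ?_
    rw [LinearMap.zero_apply]
    by_cases hl0 : l = 0
    · rw [hl0, map_zero]
    obtain ⟨j₀, hj₀⟩ := LinearMap.surjective hl0 1
    let K := subIdeal p hp (LinearMap.ker l)
    have hKp : K ≤ RingHom.ker p.toAlgHom := subIdeal_le p hp _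
    have hK : K ≤ IsLocalRing.maximalIdeal B := hKp.trans (ker_le_maximalIdeal p)
    let p' := quotFactor hK p hKp
    have hp' : IsSemismallExt p' := isSemismallExt_quotFactor p hp hK hKp
    let t : quot B K hK := quotMk B K hK (j₀ : B)
    have hker : RingHom.ker p'.toAlgHom = Ideal.span {t} := by
      refine le_antisymm (fun a ha => ?_) ((Ideal.span_singleton_le_iff_mem _).2 (kerToQuot hK p hKp j₀).2)
      obtain ⟨⟨b, hb⟩, hba⟩ := kerToQuot_surjective p hK hKp ⟨a, ha⟩
      refine Ideal.mem_span_singleton'.2 ⟨algebraMap k (quot B K hK) (l ⟨b, hb⟩), ?_⟩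
      refine Eq.trans ?_ (congrArg Subtype.val hba)
      show algebraMap k _ (l ⟨b, hb⟩) * Ideal.Quotient.mk K (j₀ : B) = Ideal.Quotient.mk K b
      rw [show algebraMap k ((B : Type u) ⧸ K) (l ⟨b, hb⟩) = Ideal.Quotient.mk K (algebraMap k B (l ⟨b, hb⟩)) from rfl,
        ← map_mul, Ideal.Quotient.eq, ← Algebra.smul_def]
      refine (mem_subIdeal p hp _ (l ⟨b, hb⟩ • j₀ - ⟨b, hb⟩)).2 ?_
      rw [LinearMap.mem_ker, map_sub, map_smul, hj₀, smul_eq_mul, mul_one, sub_self]
    have ht0 : t ≠ 0 := fun h => by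
      have := (mem_subIdeal p hp _ j₀).1 (Ideal.Quotient.eq_zero_iff_mem.1 h)
      rw [LinearMap.mem_ker, hj₀] at this
      exact one_ne_zero this
    have hm : IsLocalRing.maximalIdeal (quot B K hK) * Ideal.span {t} = ⊥ := hker ▸ hp'.2
    obtain ⟨l', -, hl'⟩ := exists_functional p' t hker ht0 hp'
    obtain ⟨κ', hκ', hκ''⟩ := exists_isKap_small p' hp'.1 t hker ht0 hm IA l' hl'
    rw [Omega_map hover hL (quotMk B K hK) p' p (quotMk_quotFactor hK p hKp) hp hp' IA l' l (fun j j' e => by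
      have h1 : Ideal.Quotient.mk K (j : B) = Ideal.Quotient.mk K (algebraMap k B (l' j') * (j₀ : B)) := by
        refine (e.trans (hl' j')).trans ?_
        rfl
      rw [Ideal.Quotient.eq, ← Algebra.smul_def] at h1
      have h2 := (mem_subIdeal p hp _ (j - l' j' • j₀)).1 h1
      rw [LinearMap.mem_ker, map_sub, map_smul, hj₀, smul_eq_mul, mul_one, sub_eq_zero] at h2
      exact h2), Omega_eq hover hL p' hp' IA hκ']
    have hF : Fact (Scheme.Modules.pullbackPushforwardAdjunction I₀.subschemeι)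
        (Coh.structureModule I₀.subscheme) (phi p' hp'.1 IA) κ' :=
      fact_small p' hp'.1 t hker ht0 hm IA κ' hκ'' (hL p' ⟨hp'.1, fun h => ht0 (by
        rw [h] at hker; exact Ideal.span_singleton_eq_bot.1 hker.symm), ⟨⟨t, hker⟩⟩, hp'.2⟩ IA)
    refine (cls_eq_zero_iff _ _ _ hF).2 (extend_of_lift p' hp'.1 t hker ht0 hm IA κ' hκ''
      ((localHilb X _ I₀).map (quotMk B K hK) I) ?_)
    rw [← ArtFunLib.map_comp', quotMk_quotFactor, hI]

open Classical in
include hover hL in
/-- The obstruction theory with values in `Ext¹(I/I², O)`. -/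
theorem hasObsTheory : HasObsTheory (localHilb X (X ↘ Spec (CommRingCat.of k)) I₀)
    (Abelian.Ext.{u} ((Scheme.Modules.pullback I₀.subschemeι).obj (ClSub.idealMod I₀))
      (Coh.structureModule I₀.subscheme) 1) := by
  let E := Abelian.Ext.{u} ((Scheme.Modules.pullback I₀.subschemeι).obj (ClSub.idealMod I₀))
    (Coh.structureModule I₀.subscheme) 1
  haveI hf : ∀ {B A : Art k k} (p : B ⟶ A), Module.Finite k (RingHom.ker p.toAlgHom) := fun p => finite_ker p
  let ev : ∀ {B A : Art k k} (p : B ⟶ A), (RingHom.ker p.toAlgHom →ₗ[k] k) →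
      E ⊗[k] (RingHom.ker p.toAlgHom) → E := fun p l w => TensorProduct.rid k E (LinearMap.lTensor E l w)
  let ob : ∀ {B A : Art k k} (p : B ⟶ A), IsSemismallExt p →
      (localHilb X (X ↘ Spec (CommRingCat.of k)) I₀).obj A → E ⊗[k] (RingHom.ker p.toAlgHom) := fun p hp IA =>
    ∑ j, (Omega' hover hL p hp IA ((Module.finBasis k (RingHom.ker p.toAlgHom)).coord j)) ⊗ₜ
      (Module.finBasis k (RingHom.ker p.toAlgHom)) j
  have hev : ∀ {B A : Art k k} (p : B ⟶ A) (hp : IsSemismallExt p) IA (l : RingHom.ker p.toAlgHom →ₗ[k] k),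
      ev p l (ob p hp IA) = Omega' hover hL p hp IA l := fun p hp IA l => by
    simp only [ev, ob, map_sum, LinearMap.lTensor_tmul, TensorProduct.rid_tmul]
    conv_rhs => rw [← Module.Basis.sum_dual_apply_smul_coord (Module.finBasis k (RingHom.ker p.toAlgHom)) l]
    rw [map_sum]
    exact Finset.sum_congr rfl fun j _ => (map_smul _ _ _).symm
  refine ⟨{ obs := fun p hp IA => ob p hp IA, obs_eq_zero_iff := fun p hp IA => ?_, obs_quot := ?_ }⟩
  · rw [← Omega_eq_zero_iff hover hL p hp IA]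
    refine ⟨fun h => LinearMap.ext fun l => ?_, fun h => ?_⟩
    · rw [← hev p hp IA l, h]; simp [ev]
    · simp [ob, h]
  · intro C' C p hp K hK hKp hq IA
    let b := Module.finBasis k (RingHom.ker (quotFactor hK p hKp).toAlgHom)
    let f := (kerToQuot hK p hKp).restrictScalars k
    rw [eq_sum_tmul b (ob (quotFactor hK p hKp) hq IA), eq_sum_tmul b (LinearMap.lTensor E f (ob p hp IA))]
    refine Finset.sum_congr rfl fun j _ => ?_
    congr 1
    show ev (quotFactor hK p hKp) (b.coord j) _ = _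
    rw [hev, ← LinearMap.comp_apply (LinearMap.lTensor E (b.coord j)), ← LinearMap.lTensor_comp]
    show _ = ev p (b.coord j ∘ₗ f) (ob p hp IA)
    rw [hev]
    exact (Omega_map hover hL (quotMk C' K hK) _ p (quotMk_quotFactor hK p hKp) hp hq IA _ _
      (fun i i' e => congrArg (b.coord j) (Subtype.ext e))).symm

end Groth.Agent.HilbObs76
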